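import Cfsg.Agent.Comp.BitMore3

set_option autoImplicit false
set_option Elab.async false
set_option maxRecDepth 100000

namespace Cfsg.Agent.PS4

open Cfsg.Agent.Comp.BN

def PQ : Pres := ⟨[1, 0, 3, 2, 5, 4, 7, 6],
  [[0, 0, 3, 3],
   [0, 2, 0, 3],
   [4, 4, 7, 7],
   [4, 6, 4, 7],
   [0, 0, 5, 5],
   [0, 0, 0, 0],
   [1, 5, 0, 4],
   [1, 7, 0, 6],
   [3, 5, 2, 4],
   [3, 7, 2, 6]]⟩

namespace AQ
noncomputable def m0_0 : ℕ := nat_lit 0x3f0092

noncomputable def m0_1 : ℕ := nat_lit 0x30c0c00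

noncomputable def m0_2 : ℕ := nat_lit 0x33333113

noncomputable def m0_3 : ℕ := nat_lit 0x41501414

noncomputable def m0_4 : ℕ := nat_lit 0x2002

noncomputable def m0_5 : ℕ := nat_lit 0xc00

noncomputable def m0_6 : ℕ := nat_lit 0xc00038

noncomputable def net0 : Net := (.cons 8 m0_0 (.cons 4 m0_1 (.cons 2 m0_2 (.cons 1 m0_3 (.cons 2 m0_4 (.cons 4 m0_5 (.cons 8 m0_6 .nil)))))))

theorem ok0 : Net.ok 32 net0 = true :=
  by decide +kernel

noncomputable def net1 : Net := (.cons 8 m0_6 (.cons 4 m0_5 (.cons 2 m0_4 (.cons 1 m0_3 (.cons 2 m0_2 (.cons 4 m0_1 (.cons 8 m0_0 .nil)))))))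

theorem ok1 : Net.ok 32 net1 = true :=
  by decide +kernel

noncomputable def m2_0 : ℕ := nat_lit 0x7aad

noncomputable def m2_1 : ℕ := nat_lit 0x1b0007

noncomputable def m2_2 : ℕ := nat_lit 0xc030105

noncomputable def m2_3 : ℕ := nat_lit 0x21111322

noncomputable def m2_4 : ℕ := nat_lit 0x4511414

noncomputable def m2_5 : ℕ := nat_lit 0x22222

noncomputable def m2_6 : ℕ := nat_lit 0x2040a0c

noncomputable def m2_7 : ℕ := nat_lit 0xa80070

noncomputable def m2_8 : ℕ := nat_lit 0xaa3a

noncomputable def net2 : Net := (.cons 16 m2_0 (.cons 8 m2_1 (.cons 4 m2_2 (.cons 2 m2_3 (.cons 1 m2_4 (.cons 2 m2_5 (.cons 4 m2_6 (.cons 8 m2_7 (.cons 16 m2_8 .nil)))))))))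

theorem ok2 : Net.ok 32 net2 = true :=
  by decide +kernel

noncomputable def net3 : Net := (.cons 16 m2_8 (.cons 8 m2_7 (.cons 4 m2_6 (.cons 2 m2_5 (.cons 1 m2_4 (.cons 2 m2_3 (.cons 4 m2_2 (.cons 8 m2_1 (.cons 16 m2_0 .nil)))))))))

theorem ok3 : Net.ok 32 net3 = true :=
  by decide +kernel

noncomputable def m4_0 : ℕ := nat_lit 0x8cba

noncomputable def m4_1 : ℕ := nat_lit 0x150024

noncomputable def m4_2 : ℕ := nat_lit 0xf070f0f

noncomputable def m4_3 : ℕ := nat_lit 0x21032121

noncomputable def m4_4 : ℕ := nat_lit 0x44114114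

noncomputable def m4_5 : ℕ := nat_lit 0x22222200

noncomputable def m4_6 : ℕ := nat_lit 0x8

noncomputable def m4_7 : ℕ := nat_lit 0x9a0054

noncomputable def m4_8 : ℕ := nat_lit 0x1a10

noncomputable def net4 : Net := (.cons 16 m4_0 (.cons 8 m4_1 (.cons 4 m4_2 (.cons 2 m4_3 (.cons 1 m4_4 (.cons 2 m4_5 (.cons 4 m4_6 (.cons 8 m4_7 (.cons 16 m4_8 .nil)))))))))

theorem ok4 : Net.ok 32 net4 = true :=
  by decide +kernel

noncomputable def net5 : Net := (.cons 16 m4_8 (.cons 8 m4_7 (.cons 4 m4_6 (.cons 2 m4_5 (.cons 1 m4_4 (.cons 2 m4_3 (.cons 4 m4_2 (.cons 8 m4_1 (.cons 16 m4_0 .nil)))))))))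

theorem ok5 : Net.ok 32 net5 = true :=
  by decide +kernel

noncomputable def m6_0 : ℕ := nat_lit 0xc18

noncomputable def m6_1 : ℕ := nat_lit 0xf10091

noncomputable def m6_2 : ℕ := nat_lit 0x1070c08

noncomputable def m6_3 : ℕ := nat_lit 0x3103012

noncomputable def m6_4 : ℕ := nat_lit 0x4451114

noncomputable def m6_5 : ℕ := nat_lit 0x200

noncomputable def m6_6 : ℕ := nat_lit 0x8080c

noncomputable def m6_7 : ℕ := nat_lit 0x2800c4

noncomputable def m6_8 : ℕ := nat_lit 0xc30

noncomputable def net6 : Net := (.cons 16 m6_0 (.cons 8 m6_1 (.cons 4 m6_2 (.cons 2 m6_3 (.cons 1 m6_4 (.cons 2 m6_5 (.cons 4 m6_6 (.cons 8 m6_7 (.cons 16 m6_8 .nil)))))))))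

theorem ok6 : Net.ok 32 net6 = true :=
  by decide +kernel

noncomputable def net7 : Net := (.cons 16 m6_8 (.cons 8 m6_7 (.cons 4 m6_6 (.cons 2 m6_5 (.cons 1 m6_4 (.cons 2 m6_3 (.cons 4 m6_2 (.cons 8 m6_1 (.cons 16 m6_0 .nil)))))))))

theorem ok7 : Net.ok 32 net7 = true :=
  by decide +kernel

noncomputable def nets : List Net := [net0, net1, net2, net3, net4, net5, net6, net7]

noncomputable def act : Act := netAct' nets
noncomputable def π : ℕ → Equiv.Perm ℕ := netPerm nets

theorem spec : act.Spec 32 π :=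
  spec_fast (netAct_spec (AllP.forall (p := fun t => Net.ok 32 t = true) ⟨ok0, ok1, ok2, ok3, ok4, ok5, ok6, ok7, trivial⟩))

theorem out : ∀ k, 8 ≤ k → π k = 1 :=
  netPerm_out nets

theorem sat_inv_0 : invC Cfsg.Agent.PS4.AQ.act Cfsg.Agent.PS4.PQ.I 32 5 Cfsg.Agent.PS4.PQ.inv.length [0, 1, 2, 3, 4] = true :=
  by decide +kernel

theorem sat_inv : ∀ k, Cfsg.Agent.PS4.AQ.π (Cfsg.Agent.PS4.PQ.I k) * Cfsg.Agent.PS4.AQ.π k = 1 :=
  inv_of_checks Cfsg.Agent.PS4.AQ.spec (K := 5) (by decide) Cfsg.Agent.PS4.AQ.out [[0, 1, 2, 3, 4]] (by decide) ⟨sat_inv_0, trivial⟩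

theorem sat_rel_0_0 : relsC Cfsg.Agent.PS4.AQ.act Cfsg.Agent.PS4.PQ.I 32 5 [[0, 0, 3, 3], [0, 2, 0, 3], [4, 4, 7, 7], [4, 6, 4, 7], [0, 0, 5, 5], [0, 0, 0, 0], [1, 5, 0, 4], [1, 7, 0, 6], [3, 5, 2, 4], [3, 7, 2, 6]] [0, 1, 2, 3, 4] = true :=
  by decide +kernel

theorem sat_rel_0 : ∀ r ∈ ([[0, 0, 3, 3], [0, 2, 0, 3], [4, 4, 7, 7], [4, 6, 4, 7], [0, 0, 5, 5], [0, 0, 0, 0], [1, 5, 0, 4], [1, 7, 0, 6], [3, 5, 2, 4], [3, 7, 2, 6]] : List (List ℕ)), ev Cfsg.Agent.PS4.AQ.π r = 1 :=
  rels_of_checks Cfsg.Agent.PS4.AQ.spec (K := 5) (by decide) sat_inv _ [[0, 1, 2, 3, 4]] (by decide) ⟨sat_rel_0_0, trivial⟩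

theorem sat_rel : ∀ r ∈ ([[0, 0, 3, 3], [0, 2, 0, 3], [4, 4, 7, 7], [4, 6, 4, 7], [0, 0, 5, 5], [0, 0, 0, 0], [1, 5, 0, 4], [1, 7, 0, 6], [3, 5, 2, 4], [3, 7, 2, 6]] : List (List ℕ)), ev Cfsg.Agent.PS4.AQ.π r = 1 :=
  rels_join [[[0, 0, 3, 3], [0, 2, 0, 3], [4, 4, 7, 7], [4, 6, 4, 7], [0, 0, 5, 5], [0, 0, 0, 0], [1, 5, 0, 4], [1, 7, 0, 6], [3, 5, 2, 4], [3, 7, 2, 6]]] ⟨sat_rel_0, trivial⟩

theorem sat : Sat Cfsg.Agent.PS4.PQ Cfsg.Agent.PS4.AQ.π :=
  ⟨Cfsg.Agent.PS4.AQ.out, sat_inv, sat_rel⟩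

noncomputable def done_tr0 : ℕ := nat_lit 0x555556aa

noncomputable def done_tr1 : ℕ := nat_lit 0x559664cc

noncomputable def done_tr2 : ℕ := nat_lit 0x55d778f0

noncomputable def done_tr3 : ℕ := nat_lit 0xaa288100

noncomputable def done_t0_0 : ℕ := nat_lit 0xcc0f0c21

noncomputable def done_t0_1 : ℕ := nat_lit 0xc0ffc3c

noncomputable def done_t0_2 : ℕ := nat_lit 0xf3f001c0

noncomputable def done_t1_0 : ℕ := nat_lit 0x33f0201b

noncomputable def done_t1_1 : ℕ := nat_lit 0x3f02ff8

noncomputable def done_t1_2 : ℕ := nat_lit 0xfc0fd000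

noncomputable def done_t2_0 : ℕ := nat_lit 0xfc204137

noncomputable def done_t2_1 : ℕ := nat_lit 0xf3cf0a34

noncomputable def done_t2_2 : ℕ := nat_lit 0xc30f1c0

noncomputable def done_t3_0 : ℕ := nat_lit 0xde360603

noncomputable def done_t3_1 : ℕ := nat_lit 0xc32f7ec

noncomputable def done_t3_2 : ℕ := nat_lit 0xf3cd0000

noncomputable def done_t4_0 : ℕ := nat_lit 0xfcb0044f

noncomputable def done_t4_1 : ℕ := nat_lit 0xffbce3c4

noncomputable def done_t4_2 : ℕ := nat_lit 0x20810

noncomputable def done_t5_0 : ℕ := nat_lit 0x30cdf8b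

noncomputable def done_t5_1 : ℕ := nat_lit 0xff3cdba4

noncomputable def done_t5_2 : ℕ := nat_lit 0x410010

noncomputable def done_t6_0 : ℕ := nat_lit 0x499e2b

noncomputable def done_t6_1 : ℕ := nat_lit 0xa8208200

noncomputable def done_t6_2 : ℕ := nat_lit 0x28a2954

noncomputable def done_t7_0 : ℕ := nat_lit 0x14114bf

noncomputable def done_t7_1 : ℕ := nat_lit 0x8220c4

noncomputable def done_t7_2 : ℕ := nat_lit 0x55144a10

noncomputable def doneC : TC := ⟨Cfsg.Agent.PS4.PQ, [], 32, 32, 5, 3, [done_tr0, done_tr1, done_tr2, done_tr3],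
  [[done_t0_0, done_t0_1, done_t0_2],
   [done_t1_0, done_t1_1, done_t1_2],
   [done_t2_0, done_t2_1, done_t2_2],
   [done_t3_0, done_t3_1, done_t3_2],
   [done_t4_0, done_t4_1, done_t4_2],
   [done_t5_0, done_t5_1, done_t5_2],
   [done_t6_0, done_t6_1, done_t6_2],
   [done_t7_0, done_t7_1, done_t7_2]]⟩

theorem done_s : doneC.structC Cfsg.Agent.PS4.AQ.act = true :=
  by decide +kernel

theorem done_c0_0 : doneC.coverC Cfsg.Agent.PS4.AQ.act 0 true [(3, 2), (12, 0)] [(false, 2, 1, 0), (false, 0, 0, 4), (false, 0, 0, 17), (false, 0, 0, 29), (false, 3, 0, 11), (false, 3, 0, 3), (false, 15, 0, 9), (false, 18, 2, 1), (false, 18, 2, 14), (false, 18, 2, 15), (false, 19, 3, 12), (false, 21, 2, 1), (false, 22, 3, 14)] 0 (ones 32) = true :=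
  by decide +kernel

theorem done_j0 : doneC.JustS Cfsg.Agent.PS4.AQ.π 0 (ones 32) :=
  TC.cover_step Cfsg.Agent.PS4.AQ.spec done_s (TC.justS_zero 0) done_c0_0

theorem done_c1_0 : doneC.coverC Cfsg.Agent.PS4.AQ.act 1 true [(4, 1), (13, 2)] [(false, 2, 0, 1), (false, 2, 0, 9), (false, 1, 2, 11), (false, 1, 3, 17), (false, 1, 3, 29), (false, 4, 3, 11), (false, 16, 0, 2), (false, 18, 0, 12), (false, 19, 1, 1), (false, 19, 1, 14), (false, 19, 1, 15), (false, 21, 0, 14), (false, 22, 1, 1)] 0 (ones 32) = true :=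
  by decide +kernel

theorem done_j1 : doneC.JustS Cfsg.Agent.PS4.AQ.π 1 (ones 32) :=
  TC.cover_step Cfsg.Agent.PS4.AQ.spec done_s (TC.justS_zero 1) done_c1_0

theorem done_c2_0 : doneC.coverC Cfsg.Agent.PS4.AQ.act 2 true [(24, 2)] [(false, 8, 1, 0), (false, 8, 1, 1), (false, 1, 0, 9), (false, 1, 0, 18), (false, 1, 0, 2), (false, 1, 0, 25), (false, 1, 1, 1), (false, 1, 1, 0), (false, 1, 1, 13), (false, 1, 1, 20), (false, 1, 1, 27), (false, 1, 1, 26), (false, 25, 3, 6), (false, 25, 3, 13), (false, 25, 3, 16), (false, 25, 3, 22), (false, 27, 2, 9), (false, 27, 2, 3), (false, 27, 2, 10), (false, 28, 3, 15), (false, 28, 3, 18), (false, 28, 3, 20), (false, 28, 3, 24)] 0 (ones 32) = true :=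
  by decide +kernel

theorem done_j2 : doneC.JustS Cfsg.Agent.PS4.AQ.π 2 (ones 32) :=
  TC.cover_step Cfsg.Agent.PS4.AQ.spec done_s (TC.justS_zero 2) done_c2_0

theorem done_c3_0 : doneC.coverC Cfsg.Agent.PS4.AQ.act 3 true [(0, 2), (25, 1)] [(false, 8, 0, 3), (false, 8, 0, 10), (false, 0, 3, 2), (false, 0, 3, 9), (false, 24, 0, 16), (false, 24, 0, 22), (false, 24, 0, 6), (false, 24, 0, 13), (false, 27, 0, 18), (false, 27, 0, 24), (false, 27, 0, 15), (false, 27, 0, 20), (false, 28, 1, 3), (false, 28, 1, 10), (false, 28, 1, 9)] 0 (ones 32) = true :=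
  by decide +kernel

theorem done_j3 : doneC.JustS Cfsg.Agent.PS4.AQ.π 3 (ones 32) :=
  TC.cover_step Cfsg.Agent.PS4.AQ.spec done_s (TC.justS_zero 3) done_c3_0

theorem done_c4_0 : doneC.coverC Cfsg.Agent.PS4.AQ.act 4 true [(9, 2)] [(false, 14, 1, 0), (false, 14, 1, 1), (false, 14, 1, 3), (false, 14, 1, 10), (false, 6, 0, 8), (false, 6, 0, 15), (false, 6, 0, 19), (false, 6, 0, 25), (false, 9, 0, 21), (false, 9, 0, 27), (false, 9, 0, 29), (false, 9, 0, 31), (false, 13, 0, 9), (false, 13, 0, 2), (false, 13, 0, 4), (false, 13, 1, 1), (false, 13, 1, 3), (false, 13, 1, 0), (false, 13, 1, 10), (false, 24, 3, 23)] 0 (ones 32) = true :=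
  by decide +kernel

theorem done_j4 : doneC.JustS Cfsg.Agent.PS4.AQ.π 4 (ones 32) :=
  TC.cover_step Cfsg.Agent.PS4.AQ.spec done_s (TC.justS_zero 4) done_c4_0

theorem done_c5_0 : doneC.coverC Cfsg.Agent.PS4.AQ.act 5 true [(10, 1)] [(false, 14, 0, 5), (false, 14, 0, 12), (false, 14, 0, 16), (false, 14, 0, 22), (false, 7, 2, 21), (false, 7, 2, 27), (false, 7, 2, 29), (false, 7, 2, 31), (false, 10, 3, 21), (false, 10, 3, 27), (false, 10, 3, 29), (false, 10, 3, 31), (false, 12, 2, 0), (false, 12, 2, 1), (false, 12, 2, 3), (false, 12, 2, 10), (false, 12, 3, 2), (false, 12, 3, 4), (false, 12, 3, 9), (false, 25, 0, 23)] 0 (ones 32) = true :=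
  by decide +kernel

theorem done_j5 : doneC.JustS Cfsg.Agent.PS4.AQ.π 5 (ones 32) :=
  TC.cover_step Cfsg.Agent.PS4.AQ.spec done_s (TC.justS_zero 5) done_c5_0

theorem done_c6_0 : doneC.coverC Cfsg.Agent.PS4.AQ.act 6 true [(20, 1), (7, 0)] [(false, 7, 1, 0), (false, 27, 3, 4)] 0 (ones 32) = true :=
  by decide +kernel

theorem done_j6 : doneC.JustS Cfsg.Agent.PS4.AQ.π 6 (ones 32) :=
  TC.cover_step Cfsg.Agent.PS4.AQ.spec done_s (TC.justS_zero 6) done_c6_0

theorem done_c7_0 : doneC.coverC Cfsg.Agent.PS4.AQ.act 7 true [(20, 0), (6, 2), (6, 3)] [(false, 28, 0, 4)] 0 (ones 32) = true :=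
  by decide +kernel

theorem done_j7 : doneC.JustS Cfsg.Agent.PS4.AQ.π 7 (ones 32) :=
  TC.cover_step Cfsg.Agent.PS4.AQ.spec done_s (TC.justS_zero 7) done_c7_0

theorem done : doneC.Done Cfsg.Agent.PS4.AQ.π :=
  TC.done_of Cfsg.Agent.PS4.AQ.spec sat done_s ⟨done_j0, done_j1, done_j2, done_j3, done_j4, done_j5, done_j6, done_j7, trivial⟩

end AQ

theorem bQ : Bound PQ 32 := fun G _ x hx => by
  simpa [AQ.doneC] using AQ.done.card_le hx (H := ⊥) (by
    refine AllP.forall (p := fun W => ev x W ∈ (⊥ : Subgroup G)) trivial)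

def PK : Pres := ⟨[1, 0, 3, 2, 5, 4, 7, 6, 9, 8, 11, 10, 12],
  [[0, 0, 3, 3],
   [0, 2, 0, 3],
   [4, 4, 7, 7],
   [4, 6, 4, 7],
   [0, 0, 5, 5],
   [0, 0, 0, 0],
   [1, 5, 0, 4],
   [1, 7, 0, 6],
   [3, 5, 2, 4],
   [3, 7, 2, 6],
   [8, 8, 8],
   [10, 10, 10],
   [9, 11, 8, 10],
   [8, 0, 9, 3],
   [8, 2, 9, 3, 1],
   [10, 4, 11, 7],
   [10, 6, 11, 7, 5],
   [9, 5, 8, 4],
   [9, 7, 8, 6],
   [11, 1, 10, 0],
   [11, 3, 10, 2],
   [12, 0, 12, 5],
   [12, 2, 12, 7],
   [12, 8, 12, 11]]⟩

namespace AK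
noncomputable def net0 : Net := .nil

theorem ok0 : Net.ok 20 net0 = true :=
  by decide +kernel

noncomputable def net1 : Net := .nil

theorem ok1 : Net.ok 20 net1 = true :=
  by decide +kernel

noncomputable def net2 : Net := .nil

theorem ok2 : Net.ok 20 net2 = true :=
  by decide +kernel

noncomputable def net3 : Net := .nil

theorem ok3 : Net.ok 20 net3 = true :=
  by decide +kernel

noncomputable def net4 : Net := .nil

theorem ok4 : Net.ok 20 net4 = true :=
  by decide +kernel

noncomputable def net5 : Net := .nil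

theorem ok5 : Net.ok 20 net5 = true :=
  by decide +kernel

noncomputable def net6 : Net := .nil

theorem ok6 : Net.ok 20 net6 = true :=
  by decide +kernel

noncomputable def net7 : Net := .nil

theorem ok7 : Net.ok 20 net7 = true :=
  by decide +kernel

noncomputable def m8_0 : ℕ := nat_lit 0x18b

noncomputable def m8_1 : ℕ := nat_lit 0x5408

noncomputable def m8_2 : ℕ := nat_lit 0x1

noncomputable def m8_3 : ℕ := nat_lit 0x40842

noncomputable def m8_4 : ℕ := nat_lit 0x214a4

noncomputable def m8_5 : ℕ := nat_lit 0x10948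

noncomputable def m8_6 : ℕ := nat_lit 0x9025

noncomputable def m8_7 : ℕ := nat_lit 0x680e

noncomputable def m8_8 : ℕ := nat_lit 0x146

noncomputable def net8 : Net := (.cons 10 m8_0 (.cons 5 m8_1 (.cons 1 m8_2 (.cons 1 m8_3 (.cons 1 m8_4 (.cons 1 m8_5 (.cons 1 m8_6 (.cons 5 m8_7 (.cons 10 m8_8 .nil)))))))))

theorem ok8 : Net.ok 20 net8 = true :=
  by decide +kernel

noncomputable def net9 : Net := (.cons 10 m8_8 (.cons 5 m8_7 (.cons 1 m8_6 (.cons 1 m8_5 (.cons 1 m8_4 (.cons 1 m8_3 (.cons 1 m8_2 (.cons 5 m8_1 (.cons 10 m8_0 .nil)))))))))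

theorem ok9 : Net.ok 20 net9 = true :=
  by decide +kernel

noncomputable def m10_0 : ℕ := nat_lit 0x36c

noncomputable def m10_1 : ℕ := nat_lit 0x6c09

noncomputable def m10_2 : ℕ := nat_lit 0x1000

noncomputable def m10_3 : ℕ := nat_lit 0x42848

noncomputable def m10_4 : ℕ := nat_lit 0x294a5

noncomputable def m10_5 : ℕ := nat_lit 0x1084a

noncomputable def m10_6 : ℕ := nat_lit 0x14a1

noncomputable def m10_7 : ℕ := nat_lit 0x700e

noncomputable def m10_8 : ℕ := nat_lit 0x3b4

noncomputable def net10 : Net := (.cons 10 m10_0 (.cons 5 m10_1 (.cons 1 m10_2 (.cons 1 m10_3 (.cons 1 m10_4 (.cons 1 m10_5 (.cons 1 m10_6 (.cons 5 m10_7 (.cons 10 m10_8 .nil)))))))))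

theorem ok10 : Net.ok 20 net10 = true :=
  by decide +kernel

noncomputable def net11 : Net := (.cons 10 m10_8 (.cons 5 m10_7 (.cons 1 m10_6 (.cons 1 m10_5 (.cons 1 m10_4 (.cons 1 m10_3 (.cons 1 m10_2 (.cons 5 m10_1 (.cons 10 m10_0 .nil)))))))))

theorem ok11 : Net.ok 20 net11 = true :=
  by decide +kernel

noncomputable def m12_0 : ℕ := nat_lit 0x215

noncomputable def m12_1 : ℕ := nat_lit 0x7c03

noncomputable def m12_2 : ℕ := nat_lit 0x284a

noncomputable def m12_3 : ℕ := nat_lit 0x14a4

noncomputable def m12_4 : ℕ := nat_lit 0x5284a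

noncomputable def m12_5 : ℕ := nat_lit 0x4

noncomputable def m12_6 : ℕ := nat_lit 0x7802

noncomputable def m12_7 : ℕ := nat_lit 0x2b4

noncomputable def net12 : Net := (.cons 10 m12_0 (.cons 5 m12_1 (.cons 1 m12_2 (.cons 1 m12_3 (.cons 1 m12_4 (.cons 1 m12_5 (.cons 5 m12_6 (.cons 10 m12_7 .nil))))))))

theorem ok12 : Net.ok 20 net12 = true :=
  by decide +kernel

noncomputable def nets : List Net := [net0, net1, net2, net3, net4, net5, net6, net7, net8, net9, net10, net11, net12]

noncomputable def act : Act := netAct' nets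
noncomputable def π : ℕ → Equiv.Perm ℕ := netPerm nets

theorem spec : act.Spec 20 π :=
  spec_fast (netAct_spec (AllP.forall (p := fun t => Net.ok 20 t = true) ⟨ok0, ok1, ok2, ok3, ok4, ok5, ok6, ok7, ok8, ok9, ok10, ok11, ok12, trivial⟩))

theorem out : ∀ k, 13 ≤ k → π k = 1 :=
  netPerm_out nets

theorem sat_inv_0 : invC Cfsg.Agent.PS4.AK.act Cfsg.Agent.PS4.PK.I 20 5 Cfsg.Agent.PS4.PK.inv.length [0, 1, 2, 3, 4] = true :=
  by decide +kernel

theorem sat_inv : ∀ k, Cfsg.Agent.PS4.AK.π (Cfsg.Agent.PS4.PK.I k) * Cfsg.Agent.PS4.AK.π k = 1 :=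
  inv_of_checks Cfsg.Agent.PS4.AK.spec (K := 5) (by decide) Cfsg.Agent.PS4.AK.out [[0, 1, 2, 3, 4]] (by decide) ⟨sat_inv_0, trivial⟩

theorem sat_rel_0_0 : relsC Cfsg.Agent.PS4.AK.act Cfsg.Agent.PS4.PK.I 20 5 [[0, 0, 3, 3], [0, 2, 0, 3], [4, 4, 7, 7], [4, 6, 4, 7], [0, 0, 5, 5], [0, 0, 0, 0], [1, 5, 0, 4], [1, 7, 0, 6], [3, 5, 2, 4], [3, 7, 2, 6], [8, 8, 8], [10, 10, 10], [9, 11, 8, 10], [8, 0, 9, 3], [8, 2, 9, 3, 1], [10, 4, 11, 7], [10, 6, 11, 7, 5], [9, 5, 8, 4], [9, 7, 8, 6], [11, 1, 10, 0], [11, 3, 10, 2], [12, 0, 12, 5], [12, 2, 12, 7], [12, 8, 12, 11]] [0, 1, 2, 3, 4] = true :=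
  by decide +kernel

theorem sat_rel_0 : ∀ r ∈ ([[0, 0, 3, 3], [0, 2, 0, 3], [4, 4, 7, 7], [4, 6, 4, 7], [0, 0, 5, 5], [0, 0, 0, 0], [1, 5, 0, 4], [1, 7, 0, 6], [3, 5, 2, 4], [3, 7, 2, 6], [8, 8, 8], [10, 10, 10], [9, 11, 8, 10], [8, 0, 9, 3], [8, 2, 9, 3, 1], [10, 4, 11, 7], [10, 6, 11, 7, 5], [9, 5, 8, 4], [9, 7, 8, 6], [11, 1, 10, 0], [11, 3, 10, 2], [12, 0, 12, 5], [12, 2, 12, 7], [12, 8, 12, 11]] : List (List ℕ)), ev Cfsg.Agent.PS4.AK.π r = 1 :=
  rels_of_checks Cfsg.Agent.PS4.AK.spec (K := 5) (by decide) sat_inv _ [[0, 1, 2, 3, 4]] (by decide) ⟨sat_rel_0_0, trivial⟩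

theorem sat_rel : ∀ r ∈ ([[0, 0, 3, 3], [0, 2, 0, 3], [4, 4, 7, 7], [4, 6, 4, 7], [0, 0, 5, 5], [0, 0, 0, 0], [1, 5, 0, 4], [1, 7, 0, 6], [3, 5, 2, 4], [3, 7, 2, 6], [8, 8, 8], [10, 10, 10], [9, 11, 8, 10], [8, 0, 9, 3], [8, 2, 9, 3, 1], [10, 4, 11, 7], [10, 6, 11, 7, 5], [9, 5, 8, 4], [9, 7, 8, 6], [11, 1, 10, 0], [11, 3, 10, 2], [12, 0, 12, 5], [12, 2, 12, 7], [12, 8, 12, 11]] : List (List ℕ)), ev Cfsg.Agent.PS4.AK.π r = 1 :=
  rels_join [[[0, 0, 3, 3], [0, 2, 0, 3], [4, 4, 7, 7], [4, 6, 4, 7], [0, 0, 5, 5], [0, 0, 0, 0], [1, 5, 0, 4], [1, 7, 0, 6], [3, 5, 2, 4], [3, 7, 2, 6], [8, 8, 8], [10, 10, 10], [9, 11, 8, 10], [8, 0, 9, 3], [8, 2, 9, 3, 1], [10, 4, 11, 7], [10, 6, 11, 7, 5], [9, 5, 8, 4], [9, 7, 8, 6], [11, 1, 10, 0], [11, 3, 10, 2], [12, 0, 12, 5], [12, 2, 12, 7], [12, 8, 12, 11]]] ⟨sat_rel_0, trivial⟩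

theorem sat : Sat Cfsg.Agent.PS4.PK Cfsg.Agent.PS4.AK.π :=
  ⟨Cfsg.Agent.PS4.AK.out, sat_inv, sat_rel⟩

noncomputable def done_tr0 : ℕ := nat_lit 0x3fb6a

noncomputable def done_tr1 : ℕ := nat_lit 0x24c

noncomputable def done_tr2 : ℕ := nat_lit 0x3fdb0

noncomputable def done_tr3 : ℕ := nat_lit 0x3fffe

noncomputable def done_t0_0 : ℕ := nat_lit 0x299c5

noncomputable def done_t0_1 : ℕ := nat_lit 0x19fe

noncomputable def done_t0_2 : ℕ := nat_lit 0x3e600

noncomputable def done_t1_0 : ℕ := nat_lit 0x299c5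

noncomputable def done_t1_1 : ℕ := nat_lit 0x19fe

noncomputable def done_t1_2 : ℕ := nat_lit 0x3e600

noncomputable def done_t2_0 : ℕ := nat_lit 0x3fc1

noncomputable def done_t2_1 : ℕ := nat_lit 0x3ffe

noncomputable def done_t2_2 : ℕ := nat_lit 0x3c000

noncomputable def done_t3_0 : ℕ := nat_lit 0x3fc1

noncomputable def done_t3_1 : ℕ := nat_lit 0x3ffe

noncomputable def done_t3_2 : ℕ := nat_lit 0x3c000

noncomputable def done_t4_0 : ℕ := nat_lit 0x33351

noncomputable def done_t4_1 : ℕ := nat_lit 0x337e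

noncomputable def done_t4_2 : ℕ := nat_lit 0x3cc80

noncomputable def done_t5_0 : ℕ := nat_lit 0x33351

noncomputable def done_t5_1 : ℕ := nat_lit 0x337e

noncomputable def done_t5_2 : ℕ := nat_lit 0x3cc80

noncomputable def done_t6_0 : ℕ := nat_lit 0x3fc1

noncomputable def done_t6_1 : ℕ := nat_lit 0x3ffe

noncomputable def done_t6_2 : ℕ := nat_lit 0x3c000

noncomputable def done_t7_0 : ℕ := nat_lit 0x3fc1

noncomputable def done_t7_1 : ℕ := nat_lit 0x3ffe

noncomputable def done_t7_2 : ℕ := nat_lit 0x3c000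

noncomputable def done_t8_0 : ℕ := nat_lit 0x2a601

noncomputable def done_t8_1 : ℕ := nat_lit 0x3fffc

noncomputable def done_t8_2 : ℕ := nat_lit 0

noncomputable def done_t9_0 : ℕ := nat_lit 0x150c1

noncomputable def done_t9_1 : ℕ := nat_lit 0x3fffa

noncomputable def done_t9_2 : ℕ := nat_lit 0

noncomputable def done_t10_0 : ℕ := nat_lit 0xf807

noncomputable def done_t10_1 : ℕ := nat_lit 0xfdb0

noncomputable def done_t10_2 : ℕ := nat_lit 0x30000

noncomputable def done_t11_0 : ℕ := nat_lit 0x33107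

noncomputable def done_t11_1 : ℕ := nat_lit 0x33b68

noncomputable def done_t11_2 : ℕ := nat_lit 0xc000

noncomputable def done_t12_0 : ℕ := nat_lit 0x6df

noncomputable def done_t12_1 : ℕ := nat_lit 0

noncomputable def done_t12_2 : ℕ := nat_lit 0

noncomputable def doneC : TC := ⟨Cfsg.Agent.PS4.PK, [[0], [1], [2], [3], [4], [5], [6], [7]], 18, 20, 5, 3, [done_tr0, done_tr1, done_tr2, done_tr3],
  [[done_t0_0, done_t0_1, done_t0_2],
   [done_t1_0, done_t1_1, done_t1_2],
   [done_t2_0, done_t2_1, done_t2_2],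
   [done_t3_0, done_t3_1, done_t3_2],
   [done_t4_0, done_t4_1, done_t4_2],
   [done_t5_0, done_t5_1, done_t5_2],
   [done_t6_0, done_t6_1, done_t6_2],
   [done_t7_0, done_t7_1, done_t7_2],
   [done_t8_0, done_t8_1, done_t8_2],
   [done_t9_0, done_t9_1, done_t9_2],
   [done_t10_0, done_t10_1, done_t10_2],
   [done_t11_0, done_t11_1, done_t11_2],
   [done_t12_0, done_t12_1, done_t12_2]]⟩

theorem done_s : doneC.structC Cfsg.Agent.PS4.AK.act = true :=
  by decide +kernel

theorem done_c0_0 : doneC.coverC Cfsg.Agent.PS4.AK.act 0 true [(39, 1)] [(true, 0, 0, 0), (false, 57, 3, 3), (false, 57, 3, 8), (false, 58, 2, 0), (false, 58, 2, 5), (false, 63, 1, 0)] 0 (ones 18) = true :=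
  by decide +kernel

theorem done_j0 : doneC.JustS Cfsg.Agent.PS4.AK.π 0 (ones 18) :=
  TC.cover_step Cfsg.Agent.PS4.AK.spec done_s (TC.justS_zero 0) done_c0_0

theorem done_c1_0 : doneC.coverC Cfsg.Agent.PS4.AK.act 1 true [(40, 2)] [(true, 1, 0, 0), (false, 57, 1, 0), (false, 57, 1, 5), (false, 58, 0, 3), (false, 58, 0, 8), (false, 64, 2, 0)] 0 (ones 18) = true :=
  by decide +kernel

theorem done_j1 : doneC.JustS Cfsg.Agent.PS4.AK.π 1 (ones 18) :=
  TC.cover_step Cfsg.Agent.PS4.AK.spec done_s (TC.justS_zero 1) done_c1_0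

theorem done_c2_0 : doneC.coverC Cfsg.Agent.PS4.AK.act 2 true [] [(true, 2, 0, 0), (false, 40, 0, 2), (false, 40, 0, 9), (false, 40, 0, 10), (false, 40, 0, 13), (false, 40, 0, 15), (false, 40, 0, 17), (false, 60, 3, 3), (false, 60, 3, 6), (false, 60, 3, 8), (false, 60, 3, 14), (false, 61, 2, 0), (false, 61, 2, 1), (false, 61, 2, 5), (false, 61, 2, 12), (false, 66, 1, 0), (false, 66, 1, 3), (false, 42, 1, 0)] 0 (ones 18) = true :=
  by decide +kernel

theorem done_j2 : doneC.JustS Cfsg.Agent.PS4.AK.π 2 (ones 18) :=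
  TC.cover_step Cfsg.Agent.PS4.AK.spec done_s (TC.justS_zero 2) done_c2_0

theorem done_c3_0 : doneC.coverC Cfsg.Agent.PS4.AK.act 3 true [] [(true, 3, 0, 0), (false, 39, 3, 2), (false, 39, 3, 9), (false, 39, 3, 10), (false, 39, 3, 13), (false, 39, 3, 15), (false, 39, 3, 17), (false, 60, 1, 0), (false, 60, 1, 1), (false, 60, 1, 5), (false, 60, 1, 12), (false, 61, 0, 3), (false, 61, 0, 6), (false, 61, 0, 8), (false, 61, 0, 14), (false, 67, 2, 0), (false, 67, 2, 3), (false, 43, 3, 0)] 0 (ones 18) = true :=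
  by decide +kernel

theorem done_j3 : doneC.JustS Cfsg.Agent.PS4.AK.π 3 (ones 18) :=
  TC.cover_step Cfsg.Agent.PS4.AK.spec done_s (TC.justS_zero 3) done_c3_0

theorem done_c4_0 : doneC.coverC Cfsg.Agent.PS4.AK.act 4 true [(45, 1)] [(true, 4, 0, 0), (false, 51, 3, 1), (false, 51, 3, 12), (false, 52, 2, 0), (false, 52, 2, 5), (false, 64, 0, 5)] 0 (ones 18) = true :=
  by decide +kernel

theorem done_j4 : doneC.JustS Cfsg.Agent.PS4.AK.π 4 (ones 18) :=
  TC.cover_step Cfsg.Agent.PS4.AK.spec done_s (TC.justS_zero 4) done_c4_0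

theorem done_c5_0 : doneC.coverC Cfsg.Agent.PS4.AK.act 5 true [(46, 2)] [(true, 5, 0, 0), (false, 51, 1, 0), (false, 51, 1, 5), (false, 52, 0, 1), (false, 52, 0, 12), (false, 63, 3, 5)] 0 (ones 18) = true :=
  by decide +kernel

theorem done_j5 : doneC.JustS Cfsg.Agent.PS4.AK.π 5 (ones 18) :=
  TC.cover_step Cfsg.Agent.PS4.AK.spec done_s (TC.justS_zero 5) done_c5_0

theorem done_c6_0 : doneC.coverC Cfsg.Agent.PS4.AK.act 6 true [] [(true, 6, 0, 0), (false, 46, 0, 4), (false, 46, 0, 7), (false, 46, 0, 10), (false, 46, 0, 11), (false, 46, 0, 16), (false, 46, 0, 17), (false, 54, 3, 1), (false, 54, 3, 6), (false, 54, 3, 12), (false, 54, 3, 14), (false, 55, 2, 0), (false, 55, 2, 3), (false, 55, 2, 5), (false, 55, 2, 8), (false, 67, 0, 5), (false, 67, 0, 8), (false, 48, 1, 0)] 0 (ones 18) = true :=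
  by decide +kernel

theorem done_j6 : doneC.JustS Cfsg.Agent.PS4.AK.π 6 (ones 18) :=
  TC.cover_step Cfsg.Agent.PS4.AK.spec done_s (TC.justS_zero 6) done_c6_0

theorem done_c7_0 : doneC.coverC Cfsg.Agent.PS4.AK.act 7 true [] [(true, 7, 0, 0), (false, 45, 3, 4), (false, 45, 3, 7), (false, 45, 3, 10), (false, 45, 3, 11), (false, 45, 3, 16), (false, 45, 3, 17), (false, 54, 1, 0), (false, 54, 1, 3), (false, 54, 1, 5), (false, 54, 1, 8), (false, 55, 0, 1), (false, 55, 0, 6), (false, 55, 0, 12), (false, 55, 0, 14), (false, 66, 3, 5), (false, 66, 3, 8), (false, 49, 3, 0)] 0 (ones 18) = true :=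
  by decide +kernel

theorem done_j7 : doneC.JustS Cfsg.Agent.PS4.AK.π 7 (ones 18) :=
  TC.cover_step Cfsg.Agent.PS4.AK.spec done_s (TC.justS_zero 7) done_c7_0

theorem done_c8_0 : doneC.coverC Cfsg.Agent.PS4.AK.act 8 true [] [(false, 26, 1, 0), (false, 30, 0, 1), (false, 30, 0, 6), (false, 30, 0, 7), (false, 30, 0, 12), (false, 30, 0, 14), (false, 30, 0, 16), (false, 36, 2, 0), (false, 36, 2, 1), (false, 37, 3, 3), (false, 37, 3, 6), (false, 69, 1, 4), (false, 69, 1, 7), (false, 69, 1, 10), (false, 69, 1, 0), (false, 69, 1, 1), (false, 69, 1, 2)] 0 (ones 18) = true :=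
  by decide +kernel

theorem done_j8 : doneC.JustS Cfsg.Agent.PS4.AK.π 8 (ones 18) :=
  TC.cover_step Cfsg.Agent.PS4.AK.spec done_s (TC.justS_zero 8) done_c8_0

theorem done_c9_0 : doneC.coverC Cfsg.Agent.PS4.AK.act 9 true [] [(false, 26, 0, 1), (false, 31, 0, 2), (false, 31, 0, 9), (false, 31, 0, 10), (false, 31, 0, 13), (false, 31, 0, 15), (false, 31, 0, 17), (false, 36, 0, 6), (false, 36, 0, 3), (false, 37, 1, 1), (false, 37, 1, 0), (false, 70, 2, 0), (false, 70, 2, 1), (false, 70, 2, 2), (false, 70, 2, 4), (false, 70, 2, 7), (false, 70, 2, 10)] 0 (ones 18) = true :=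
  by decide +kernel

theorem done_j9 : doneC.JustS Cfsg.Agent.PS4.AK.π 9 (ones 18) :=
  TC.cover_step Cfsg.Agent.PS4.AK.spec done_s (TC.justS_zero 9) done_c9_0

theorem done_c10_0 : doneC.coverC Cfsg.Agent.PS4.AK.act 10 true [] [(false, 32, 1, 0), (false, 32, 1, 1), (false, 32, 1, 2), (false, 33, 0, 3), (false, 33, 0, 6), (false, 33, 0, 9), (false, 33, 0, 8), (false, 33, 0, 14), (false, 33, 0, 15), (false, 36, 3, 12), (false, 36, 3, 14), (false, 37, 2, 5), (false, 37, 2, 8), (false, 70, 0, 11), (false, 70, 0, 5)] 0 (ones 18) = true :=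
  by decide +kernel

theorem done_j10 : doneC.JustS Cfsg.Agent.PS4.AK.π 10 (ones 18) :=
  TC.cover_step Cfsg.Agent.PS4.AK.spec done_s (TC.justS_zero 10) done_c10_0

theorem done_c11_0 : doneC.coverC Cfsg.Agent.PS4.AK.act 11 true [] [(false, 32, 0, 3), (false, 32, 0, 6), (false, 32, 0, 9), (false, 34, 0, 4), (false, 34, 0, 7), (false, 34, 0, 11), (false, 34, 0, 10), (false, 34, 0, 16), (false, 34, 0, 17), (false, 36, 1, 8), (false, 36, 1, 5), (false, 37, 0, 14), (false, 37, 0, 12), (false, 69, 3, 5), (false, 69, 3, 11)] 0 (ones 18) = true :=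
  by decide +kernel

theorem done_j11 : doneC.JustS Cfsg.Agent.PS4.AK.π 11 (ones 18) :=
  TC.cover_step Cfsg.Agent.PS4.AK.spec done_s (TC.justS_zero 11) done_c11_0

theorem done_c12_0 : doneC.coverC Cfsg.Agent.PS4.AK.act 12 true [(38, 0)] [] 0 (ones 18) = true :=
  by decide +kernel

theorem done_j12 : doneC.JustS Cfsg.Agent.PS4.AK.π 12 (ones 18) :=
  TC.cover_step Cfsg.Agent.PS4.AK.spec done_s (TC.justS_zero 12) done_c12_0

theorem done : doneC.Done Cfsg.Agent.PS4.AK.π :=
  TC.done_of Cfsg.Agent.PS4.AK.spec sat done_s ⟨done_j0, done_j1, done_j2, done_j3, done_j4, done_j5, done_j6, done_j7, done_j8, done_j9, done_j10, done_j11, done_j12, trivial⟩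

end AK

theorem iAK : Impl Cfsg.Agent.PS4.PK Cfsg.Agent.PS4.PQ [[0], [1], [2], [3], [4], [5], [6], [7]] :=
  impl_of_subC (P := Cfsg.Agent.PS4.PK) (c1 := [(72, 0), (72, 0), (72, 0), (72, 0), (72, 0), (72, 0), (72, 0), (72, 0)]) (c2 := [(0, 0), (3, 0), (6, 0), (9, 0), (12, 0), (15, 0), (18, 0), (21, 0), (24, 0), (27, 0)]) (by decide +kernel)

theorem bK : Bound Cfsg.Agent.PS4.PK 576 :=
  AK.done.bound' bQ iAK ⟨inSub_of_mem (by decide), inSub_of_mem (by decide), inSub_of_mem (by decide), inSub_of_mem (by decide), inSub_of_mem (by decide), inSub_of_mem (by decide), inSub_of_mem (by decide), inSub_of_mem (by decide), trivial⟩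

def PG : Pres := ⟨[1, 0, 3, 2, 5, 4, 7, 6, 9, 8, 11, 10, 12, 13],
  [[0, 0, 3, 3],
   [0, 2, 0, 3],
   [4, 4, 7, 7],
   [4, 6, 4, 7],
   [0, 0, 5, 5],
   [0, 0, 0, 0],
   [1, 5, 0, 4],
   [1, 7, 0, 6],
   [3, 5, 2, 4],
   [3, 7, 2, 6],
   [8, 8, 8],
   [10, 10, 10],
   [9, 11, 8, 10],
   [8, 0, 9, 3],
   [8, 2, 9, 3, 1],
   [10, 4, 11, 7],
   [10, 6, 11, 7, 5],
   [9, 5, 8, 4],
   [9, 7, 8, 6],
   [11, 1, 10, 0],
   [11, 3, 10, 2],
   [12, 0, 12, 5],
   [12, 2, 12, 7],
   [12, 8, 12, 11],
   [13, 0, 0, 13, 12],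
   [13, 8, 10, 13, 8, 10],
   [13, 0, 4, 13, 7, 3],
   [13, 0, 13, 0, 13, 0, 13, 0, 13, 0],
   [13, 12, 8, 11, 13, 12, 8, 11, 13, 12, 8, 11, 13, 12, 8, 11]]⟩

noncomputable def sAG_t0 : FT := (.node (.node (.node (.node (.node (.node (.node (.node (.leaf (nat_lit 0x3000000000057000000000001000000)) (.leaf (nat_lit 0x20100000a00011f))) (.leaf (nat_lit 0x10100000e000070))) (.node (.leaf (nat_lit 0x1fd0001090001ee00000200004000008000000d00007c)) (.leaf (nat_lit 0x5fd0005b60005a900000300000a000180000007000108)))) (.node (.node (.node (.leaf (nat_lit 0xe50000860000e200000300003d00003a00000400002a)) (.leaf (nat_lit 0x420008fd00000000005700000f000003000008))) (.leaf (nat_lit 0x4ea0004fd00026500000000005700008d00000000007d))) (.node (.leaf (nat_lit 0xc100000e00004e)) (.leaf (nat_lit 0x6ed0006f60006fd0000020000240001bc00000b0000dd))))) (.node (.node (.node (.node (.leaf (nat_lit 0x5100007200007900005200005600000100004c00001500000b000016)) (.leaf (nat_lit 0x7f900087d0007ae0000020000450001fe00000a0001eb)))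 (.leaf (nat_lit 0x12100000500007e))) (.node (.leaf (nat_lit 0x21500020600027d000000000006000086000007000099)) (.leaf (nat_lit 0x1a100000a0000c8)))) (.node (.node (.leaf (nat_lit 0x6100000b000011)) (.leaf (nat_lit 0x5790002890000a100028a00000300004800015f0000020000a3))) (.node (.leaf (nat_lit 0x37d0001950001920000020000010000e0000004000065)) (.leaf (nat_lit 0x77d0007720007750000000000250001e000000a0001d4)))))) (.node (.node (.node (.node (.node (.leaf (nat_lit 0x1100000400000f)) (.leaf (nat_lit 0x83d00062e0007ce00000100002d00020f00000c0001ef))) (.leaf (nat_lit 0x43d0001ed00020e000001000015000110000001000084))) (.node (.leaf (nat_lit 0x9100000a000017)) (.leaf (nat_lit 0x63d00031900013d00030200062a00000200004b00019000000a00018b)))) (.node (.node (.leaf (nat_lit 0x5100000b00000f)) (.leaf (nat_lit 0x46a00051e00000000005700007e00000c00007e))) (.node (.leaf (nat_lit 0x33d0001690001820000010000240000d0000009000061)) (.leaf (nat_lit 0x73d0003d10003da00000200003c0001d00000030000f7))))) (.node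 (.node (.node (.node (.leaf (nat_lit 0xad00002d00006e00000300003400002c00000600001c)) (.leaf (nat_lit 0x8be0007490008ad00019e000000000057000069000000000065))) (.leaf (nat_lit 0x13100000e00007f))) (.node (.leaf (nat_lit 0xb100000a000044)) (.leaf (nat_lit 0x1b10000090000d7)))) (.node (.node (.leaf (nat_lit 0x1bd0001610001b200000200004600007000000d00006d)) (.leaf (nat_lit 0x5bd0002a100044e00000200000a000170000005000113))) (.node (.leaf (nat_lit 0x3b100038600038100038a00000200002a0000ed0000040000e3)) (.leaf (nat_lit 0x7bd0007b20007b50000000000130001f00000020001ab))))))) (.node (.node (.node (.node (.node (.node (.leaf (nat_lit 0x1d00000100000100001e00000000004800000800000d000008)) (.leaf (nat_lit 0x8190004bd0002720002820004de00000300004e000207000006000138))) (.leaf (nat_lit 0x41d00026e00026500000200000100010800000400007d))) (.node (.leaf (nat_lit 0x21d00005600000000001f000088000009000016)) (.leaf (nat_lit 0x61d00061600061900000000002500018800000a0000cf)))) (.node (.node (.leaf (nat_lit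 0x11e00010d00003d00000000003f00004400000500000f)) (.leaf (nat_lit 0x22e00050500046e00000000005700007c00000000011c))) (.node (.leaf (nat_lit 0x31d00030e00030900031e0000000000480000c800000d0000c8)) (.leaf (nat_lit 0x71900038d0003da00000100002e0001c70000080000f7))))) (.node (.node (.node (.node (.leaf (nat_lit 0x9500006900009200000200004000002200000d000022)) (.leaf (nat_lit 0x7a10008990003710000000000570001e8000000000061))) (.leaf (nat_lit 0x49d00049200049500000000000600012800000700007f))) (.node (.leaf (nat_lit 0x29d00026e00026500000200000d0000a600000600007d)) (.leaf (nat_lit 0x1a900000a0000cd)))) (.node (.node (.leaf (nat_lit 0x69000003000012)) (.leaf (nat_lit 0x59900029900048a000000000004000167000001000121))) (.node (.leaf (nat_lit 0x3950001990001b60000030000340000e600000600006e)) (.leaf (nat_lit 0x79d0007920007990006ed0006f200000000004c0001e800000e0001bd)))))) (.node (.node (.node (.node (.node (.leaf (nat_lit 0x5900001d00000200000a00001e00000200004f000017000008000008)) (.leaf (nat_lit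 0x6e200085d0000000000570000d900000e0001b1))) (.leaf (nat_lit 0x45d00022d00041e00000000003d00011600000c000108))) (.node (.leaf (nat_lit 0x9900000e00001c)) (.leaf (nat_lit 0x65d00064e0006510000000000000001980000030000cf)))) (.node (.node (.leaf (nat_lit 0x4500015a00015500004600000000004800001200000d000012)) (.leaf (nat_lit 0x49900055d0004a900000000004500012500000b000128))) (.node (.leaf (nat_lit 0xd900000b00005e)) (.leaf (nat_lit 0x1d900000c0000f9))))) (.node (.node (.node (.node (.leaf (nat_lit 0xa50000ca0000dd00000000002400002a00000c000022)) (.leaf (nat_lit 0x8da0007320008b90008dd0001be0000000000570000e3000000000070))) (.leaf (nat_lit 0x4dd0004460004410004da00000000004800013800000d000137))) (.node (.leaf (nat_lit 0x2d900010d00014200000100003a0000b7000001000051)) (.leaf (nat_lit 0x1b900000e0000d9)))) (.node (.node (.leaf (nat_lit 0x1d100007a0000b600000100003c00007500000b00002c)) (.leaf (nat_lit 0x1790000020000ab))) (.node (.leaf (nat_lit 0xf900000100006e)) (.leaf (nat_lit 0x7dd00047500054a00053d0004be00000000004b0001f800000c000130))))))))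 (.node (.node (.node (.node (.node (.node (.node (.leaf (nat_lit 0x23000000000057000000000009000000)) (.leaf (nat_lit 0x20500000c00011f))) (.leaf (nat_lit 0x4090001d50000a900005200021600000100004f000103000004000086))) (.node (.leaf (nat_lit 0x20d0001090001f600000200004300008400000d00007e)) (.leaf (nat_lit 0x60d0003010001460003320000030000480001840000020000cd)))) (.node (.node (.leaf (nat_lit 0x10d00003900003500003a00000300004800004400000200000f)) (.leaf (nat_lit 0x459000501000422000000000057000116000000000108))) (.node (.leaf (nat_lit 0x3090002ca0002d10000000000030000c300000300005e)) (.leaf (nat_lit 0x70d0006fe0006f90000030000240001c400000a0001bd))))) (.node (.node (.node (.node (.leaf (nat_lit 0x8500002900005a000002000004000022000001000017)) (.leaf (nat_lit 0x6ed00087900080200088d0000010000360001bc0000000001be))) (.leaf (nat_lit 0x12500000600007e))) (.node (.leaf (nat_lit 0x2890000e20000a500003a00014a00000200004b0000a300000a000053)) (.leaf (nat_lit 0x68900031d00013900014200033200000200004c0001a30000090000cd))))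 (.node (.node (.leaf (nat_lit 0x65000001000012)) (.leaf (nat_lit 0x5850002a500054e00048600000300002b00016200000a000121))) (.node (.leaf (nat_lit 0x38900019d0001b20000010000340000e300000500006d)) (.leaf (nat_lit 0x77900078600078d0000020000240001df00000b000101)))))) (.node (.node (.node (.node (.node (.leaf (nat_lit 0x1500000e000013)) (.leaf (nat_lit 0x84a0008360008490006d90000000000570001b50000000001b1))) (.leaf (nat_lit 0x44900026e000279000003000015000113000002000084))) (.node (.leaf (nat_lit 0x24100005d00006e0000ba00000100002b00009100000200002c)) (.leaf (nat_lit 0x64d0006460006490000000000100001940000010000cf)))) (.node (.node (.leaf (nat_lit 0x14900003d00013a00000100004500005300000d00004f)) (.leaf (nat_lit 0x4d2000529000000000057000084000009000084))) (.node (.leaf (nat_lit 0x34d00033e0000000000220000d400000b0000d0)) (.leaf (nat_lit 0x1d50000010000f8))))) (.node (.node (.node (.node (.leaf (nat_lit 0xc900002500007600000100003a00003300000100001c)) (.leaf (nat_lit 0x75a0008b100034a0000000000570000f80000000000d0)))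 (.leaf (nat_lit 0x13500000a000084))) (.node (.leaf (nat_lit 0x2c900013900004200017600000000002a0000b100000100005e)) (.leaf (nat_lit 0x1b500000b0000d7)))) (.node (.node (.leaf (nat_lit 0x75000003000013)) (.leaf (nat_lit 0x5c500057200043d0002be00000000003100017200000b0000ad))) (.node (.leaf (nat_lit 0xf500000300006d)) (.leaf (nat_lit 0x60a0006b20007c20007c900000100004800017900000e00018b))))))) (.node (.node (.node (.node (.node (.node (.leaf (nat_lit 0x2d00002a00002500000000000c00000a000005000008)) (.leaf (nat_lit 0x82d00081a00082900000100000d00020c000006000131))) (.leaf (nat_lit 0x10d00000400007c))) (.node (.leaf (nat_lit 0x8d000002000016)) (.leaf (nat_lit 0x18d00000b0000c3)))) (.node (.node (.leaf (nat_lit 0x4100003e00012900000000004300001100000d000011)) (.leaf (nat_lit 0x52d00050d000000000057000088000000000015))) (.node (.leaf (nat_lit 0xcd00000e000051)) (.leaf (nat_lit 0x1cd00000c0000ed))))) (.node (.node (.node (.node (.leaf (nat_lit 0xad0000a600000000001f00002c00000900002a))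 (.leaf (nat_lit 0x75d0008a90003450000000000570001d7000000000097))) (.leaf (nat_lit 0x12d00000a00007e))) (.node (.leaf (nat_lit 0xad00000e000033)) (.leaf (nat_lit 0x6ad0006a50005f10006060000010000480001ab00000e000180)))) (.node (.node (.leaf (nat_lit 0x6d000009000012)) (.leaf (nat_lit 0x5ad0002b10000c90000ae0002aa00000000004b00016700000c0000ab))) (.node (.leaf (nat_lit 0xed000009000069)) (.leaf (nat_lit 0x1ed00000100011e)))))) (.node (.node (.node (.node (.node (.leaf (nat_lit 0x6d00004a00000000001f00001c000009000013)) (.leaf (nat_lit 0x84600086d0007e500000000005700019d00000000011e))) (.leaf (nat_lit 0x46d00045600046100000000002500011c00000a000108))) (.node (.leaf (nat_lit 0x26d0001ed0001f600000300000000009900000300007e)) (.leaf (nat_lit 0x19d0000070000c8)))) (.node (.node (.leaf (nat_lit 0x16900012600013600000300002800005b00000100004e)) (.leaf (nat_lit 0x5590004090001e10000b100029600000000004b00011000000c0000a6))) (.node (.leaf (nat_lit 0xdd00000e000061)) (.leaf (nat_lit 0x1dd000009000100)))))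 (.node (.node (.node (.node (.leaf (nat_lit 0xe500002d00004e00000100002e00003a000008000013)) (.leaf (nat_lit 0x58100028900008d00025a00034a0008ea0008ed0008e900034500025900000100005200015f000000000017))) (.leaf (nat_lit 0x4e500022900027200000300002700013a000009000099))) (.node (.leaf (nat_lit 0x2e900011d0002c20000010000450000bb00000d0000b1)) (.leaf (nat_lit 0x1bd00000b0000dc)))) (.node (.node (.leaf (nat_lit 0x7d000002000015)) (.leaf (nat_lit 0x5ed0005e20005e500000100001200017c000001000103))) (.node (.leaf (nat_lit 0x3e90001b90003da0000020000250000fb0000090000f7)) (.leaf (nat_lit 0x7ed0004750005460005390007a600000200004c0001fc0000090001ea)))))))))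

noncomputable def sAG_t1 : FT := (.node (.node (.node (.node (.node (.node (.node (.node (.leaf (nat_lit 0x13000000000057000000000005000000)) (.leaf (nat_lit 0x80100047d0007ee00000000004600020100000d0001fc))) (.leaf (nat_lit 0x10300000e000075))) (.node (.leaf (nat_lit 0x2050001090001f200000100003f00008200000d00007d)) (.leaf (nat_lit 0x5fd0002ad0005e200000100003f00018000000d000179)))) (.node (.node (.leaf (nat_lit 0x510000f60000f900005200000100004900001500000d000015)) (.leaf (nat_lit 0x4ee0004fd00027100000000005700008f00000000007e))) (.node (.leaf (nat_lit 0xc300000100004f)) (.leaf (nat_lit 0x7050006fe00000000001f0001c20000090001be))))) (.node (.node (.node (.node (.leaf (nat_lit 0x8500002900002600000200000100002200000400000a)) (.leaf (nat_lit 0x805000885000816000001000034000201000005000205))) (.leaf (nat_lit 0x48100027200027e000000000019000121000004000082))) (.node (.leaf (nat_lit 0xa300000e000022)) (.leaf (nat_lit 0x1a300000c0000c8)))) (.node (.node (.leaf (nat_lit 0x18500012600014a00000200003c000062000003000053))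 (.leaf (nat_lit 0x5850002a5000486000003000003000162000002000121))) (.node (.leaf (nat_lit 0xe3000009000065)) (.leaf (nat_lit 0x78500077e0000000000220001e200000b0001e0)))))) (.node (.node (.node (.node (.node (.leaf (nat_lit 0x13000009000008)) (.leaf (nat_lit 0x82d00083a0008450006790006d600000000002a00020c0000000001b5))) (.leaf (nat_lit 0x11300000800007c))) (.node (.leaf (nat_lit 0x2410001e60001e900000200002400009100000b000022)) (.leaf (nat_lit 0x64500031d00015200033a0000030000480001920000020000cf)))) (.node (.node (.leaf (nat_lit 0x5300000c00000f)) (.leaf (nat_lit 0x46e00052200000000005700007c00000c00007c))) (.node (.leaf (nat_lit 0x33d00017100025e00000100003a0000d0000001000097)) (.leaf (nat_lit 0x74500072200071d0000000000070001d00000050000f7))))) (.node (.node (.node (.node (.leaf (nat_lit 0x3300000b00000a)) (.leaf (nat_lit 0x8c50008c10000000000570001c7000000000065))) (.leaf (nat_lit 0x13300000a000080))) (.node (.leaf (nat_lit 0x2c100011100013a0000010000280000b100000400004f)) (.leaf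 (nat_lit 0x1b300000a0000d7)))) (.node (.node (.leaf (nat_lit 0x1c50001be00000000002200007200000b000070)) (.leaf (nat_lit 0x5c50005be0005c1000001000006000172000006000113))) (.node (.leaf (nat_lit 0x3c50001ad0001b60000020000360000f200000700006e)) (.leaf (nat_lit 0x7c500060d00062a0000020000390001f000000100018b))))))) (.node (.node (.node (.node (.node (.node (.leaf (nat_lit 0x2500001d00001900001e00000300004800000a000002000008)) (.leaf (nat_lit 0x8260008190004c600000000003f000207000005000131))) (.leaf (nat_lit 0x41d00026e00028600000200000400010800000100007f))) (.node (.leaf (nat_lit 0x2250000550001f600000300002700008a00000900007e)) (.leaf (nat_lit 0x18b00000c0000c1)))) (.node (.node (.leaf (nat_lit 0x3900003100002a00003a00012500000500004e00000f000007000011)) (.leaf (nat_lit 0x4d5000509000212000000000057000135000000000084))) (.node (.leaf (nat_lit 0x3250002de0002e50000010000150000ca000001000061)) (.leaf (nat_lit 0x72500039d0003ea00000000002d0001ca0000070000fb))))) (.node (.node (.node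 (.node (.leaf (nat_lit 0xa500002d00004a00000000003300002a000006000013)) (.leaf (nat_lit 0x79e0008a10003420000000000570001010000000000d0))) (.leaf (nat_lit 0x49d0002120004a600000100004200012800000d000128))) (.node (.leaf (nat_lit 0xab00000e00002c)) (.leaf (nat_lit 0x1ab00000c0000cd)))) (.node (.node (.leaf (nat_lit 0x1a100004500015600016500004600000200004f000069000008000012)) (.leaf (nat_lit 0x5990002a1000422000003000019000167000006000108))) (.node (.leaf (nat_lit 0x3a50001950001be0000000000390000ea000002000070)) (.leaf (nat_lit 0x1eb00000e00010d)))))) (.node (.node (.node (.node (.node (.leaf (nat_lit 0x6100002100005e00000100004200001700000d000017)) (.leaf (nat_lit 0x7cd0006420008650000020000340001ef000009000130))) (.leaf (nat_lit 0x46500022e00022900000200002400011a00000b00007e))) (.node (.leaf (nat_lit 0x2610000ce0000d100026200000000004800009900000d000099)) (.leaf (nat_lit 0x19b0000050000c8)))) (.node (.node (.leaf (nat_lit 0x5b000009000011)) (.leaf (nat_lit 0x56100055e00056500000000002500012500000a0000ad)))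 (.node (.leaf (nat_lit 0x3650001750001860000030000240000da00000a000062)) (.leaf (nat_lit 0x7610003e50007260007290000010000310001d90000060000fb))))) (.node (.node (.node (.node (.leaf (nat_lit 0xe50000ae0000c500000200002500003a000009000017)) (.leaf (nat_lit 0x3de0008d100000000005700006d00000e0000d0))) (.leaf (nat_lit 0x4e500045e00045900000200000000013a00000200008d))) (.node (.leaf (nat_lit 0xbb00000c000044)) (.leaf (nat_lit 0x6e50006dd0006ca0000030000250001b900000c0001b3)))) (.node (.node (.leaf (nat_lit 0x1d100004900002600008600000300002a000075000009000022)) (.leaf (nat_lit 0x5e10005b20005a100000200003a00017900000b000121))) (.node (.leaf (nat_lit 0xfb00000c00006e)) (.leaf (nat_lit 0x7e50007de00000000001f0001fa0000090001f8)))))))) (.node (.node (.node (.node (.node (.node (.node (.leaf (nat_lit 0x3300000000005700000000000d000000)) (.leaf (nat_lit 0x207000001000130))) (.leaf (nat_lit 0x41500028500027900000200001c000103000003000084))) (.node (.leaf (nat_lit 0x2150001090001fa00000100004200008600000d00007f))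 (.leaf (nat_lit 0x6150003010002fa0002fd00033a00000000004b00018600000c0000cf)))) (.node (.node (.leaf (nat_lit 0x10d00003900002500001d00000100001e00002a00003a00011200000100005100004400000e000044)) (.leaf (nat_lit 0x51500051100000000005700012d000000000108))) (.node (.leaf (nat_lit 0xc700000b00004f)) (.leaf (nat_lit 0x1c700000c0000e3))))) (.node (.node (.node (.node (.leaf (nat_lit 0x9500006100002e00000200000900002200000800000a)) (.leaf (nat_lit 0x6fa0008920007010000000000570001bd0000000000dd))) (.leaf (nat_lit 0x49100021200045200000100003f00012500000d000113))) (.node (.leaf (nat_lit 0x2950000fe0000f100005200020600000200004e0000a6000002000082)) (.leaf (nat_lit 0x68e00069100033500033100014e00029200028d00028900024a0002450001050002aa0005f60005f900049a0000010000540001a200000e000125)))) (.node (.node (.leaf (nat_lit 0x19100004500004100012d00004600000300004e000065000006000012)) (.leaf (nat_lit 0x1670000040000a6))) (.node (.leaf (nat_lit 0x3950001950001b60000010000280000e600000400006e)) (.leaf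 (nat_lit 0x77900077e00079500070500070200000000004c0001df00000e0001bc)))))) (.node (.node (.node (.node (.node (.leaf (nat_lit 0x17000003000008)) (.leaf (nat_lit 0x6d60008510006ce0000000000570000df0000000001b3))) (.leaf (nat_lit 0x45500026e00028600023600000200002a00011600000400008d))) (.node (.leaf (nat_lit 0x9700000e000017)) (.leaf (nat_lit 0x65500031d00030a00031500036e00000200004f0001960000080000dc)))) (.node (.node (.leaf (nat_lit 0x155000041000125000002000000000056000002000011)) (.leaf (nat_lit 0x44100055100041a000003000027000110000009000103))) (.node (.leaf (nat_lit 0xd700000e00005b)) (.leaf (nat_lit 0x1d70000020000f8))))) (.node (.node (.node (.node (.leaf (nat_lit 0xc900009a0000950000c600000400003100003300000700002c)) (.leaf (nat_lit 0x8d600076d0008b60008cd0003920000000000570000ed0000000000e3))) (.leaf (nat_lit 0x13700000e000084))) (.node (.leaf (nat_lit 0xb700000b000044)) (.leaf (nat_lit 0x6d100035d0006c20000020000460001b500000d0001b1)))) (.node (.node (.leaf (nat_lit 0x1d10000f600010100000200000400007500000100002a))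 (.leaf (nat_lit 0x5d50002a90000b900024e0004ae00000300004e000176000006000128))) (.node (.leaf (nat_lit 0xf700000c00006d)) (.leaf (nat_lit 0x5a100058a0007d500062600000400004800016700000e000188))))))) (.node (.node (.node (.node (.node (.node (.leaf (nat_lit 0xf00000e00000a)) (.leaf (nat_lit 0x20f000003000130))) (.leaf (nat_lit 0x43100026e00027100000000000400010d00000100007e))) (.node (.leaf (nat_lit 0x8f000003000016)) (.leaf (nat_lit 0x63100031500017d00031a00000200003000018d0000080000c7)))) (.node (.node (.leaf (nat_lit 0x4f00000a00000f)) (.leaf (nat_lit 0x4ba00051900000000005700010800000c000108))) (.node (.leaf (nat_lit 0xcf00000e000053)) (.leaf (nat_lit 0x7310003b90003da0007220000010000310001cd0000060001c7))))) (.node (.node (.node (.node (.leaf (nat_lit 0xad00002900006e00000100002800002c00000400001c)) (.leaf (nat_lit 0x7350008ad0001920000000000570001cd000000000065))) (.leaf (nat_lit 0x4b100023e00042e00000200002400012d00000b000108))) (.node (.leaf (nat_lit 0x2b10000d90000b500026200026500000400004f0000ad00000500007d))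 (.leaf (nat_lit 0x6b500061a0000000000210001ae00000c000186)))) (.node (.node (.leaf (nat_lit 0x1b50001b200000000001f00006e00000900006d)) (.leaf (nat_lit 0x58d0005aa0005b50000030000060001620000070000ab))) (.node (.leaf (nat_lit 0x3b10001a90001b20000000000360000ed00000800006d)) (.leaf (nat_lit 0x1ef00000200011e)))))) (.node (.node (.node (.node (.node (.leaf (nat_lit 0x6d00007600007100000300002500001c00000c000013)) (.leaf (nat_lit 0x65a0008750000000000570000dc00000700011f))) (.leaf (nat_lit 0x11f00000e00007d))) (.node (.leaf (nat_lit 0x2750001fd00020e000003000006000099000007000084)) (.leaf (nat_lit 0x67100065e00066500000100001b00019d0000030000df)))) (.node (.node (.leaf (nat_lit 0x17500016a00000000001f00005e00000900005b)) (.leaf (nat_lit 0x15f0000010000a3))) (.node (.leaf (nat_lit 0xdf00000e000062)) (.leaf (nat_lit 0x1df00000a000100))))) (.node (.node (.node (.node (.leaf (nat_lit 0xe500002900004e00000300003a00003a000002000013)) (.leaf (nat_lit 0x36a0008f500004a000000000057000062000000000013)))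 (.leaf (nat_lit 0x4f100026900026100007900004900002100001d00001600001100001900001e00007600007100007e00026200000000005400013a00000b000099))) (.node (.leaf (nat_lit 0xbf00000c00004e)) (.leaf (nat_lit 0x6f50006f20000000000220001be00000b0001bd)))) (.node (.node (.leaf (nat_lit 0x7f000004000015)) (.leaf (nat_lit 0x5ed0005ce0005c900000100003300017c000009000113))) (.node (.leaf (nat_lit 0x3ed0001c500004500016a00033e00000000004c0000fb00000e0000d0)) (.leaf (nat_lit 0x7f500047d0007ba00000100003f0001fe00000d0001ef)))))))))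

noncomputable def sAG_t2 : FT := (.node (.node (.node (.node (.node (.node (.node (.node (.leaf (nat_lit 0xb000000000057000000000003000000)) (.leaf (nat_lit 0x8010007fe00000000001f000201000009000200))) (.leaf (nat_lit 0x4010003aa0003ad00040200000000004800010100000d000101))) (.node (.leaf (nat_lit 0x82000006000015)) (.leaf (nat_lit 0x5fd0005ee0005f100000100000c000180000002000103)))) (.node (.node (.leaf (nat_lit 0xe50000350000ae00000100004500003a00000d00002c)) (.leaf (nat_lit 0x4e60004fd00026d00000000005700008a00000000007c))) (.node (.leaf (nat_lit 0x30100016e0001710003020000000000480000c100000d0000c1)) (.leaf (nat_lit 0x1c200000a0000dd))))) (.node (.node (.node (.node (.leaf (nat_lit 0x2200000300000a)) (.leaf (nat_lit 0x7fd0007f60008810000010000340002000000050001eb))) (.leaf (nat_lit 0x4810001f50001fe000001000018000121000003000080))) (.node (.leaf (nat_lit 0x21a00028100026900000300004300007f000003000099)) (.leaf (nat_lit 0x1a200000b0000c8)))) (.node (.node (.leaf (nat_lit 0x6200000c000011))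 (.leaf (nat_lit 0x1620000030000a6))) (.node (.leaf (nat_lit 0x37d0001950001a20000020000040000e0000001000069)) (.leaf (nat_lit 0x1e200000c000100)))))) (.node (.node (.node (.node (.node (.leaf (nat_lit 0x1200000e000011)) (.leaf (nat_lit 0x83d00062100067600000300003600020f00000a00019d))) (.leaf (nat_lit 0x43d00026e000282000000000016000110000002000086))) (.node (.leaf (nat_lit 0x2410000ea00000000001f00009100000900003a)) (.leaf (nat_lit 0x1920000010000c8)))) (.node (.node (.leaf (nat_lit 0x14100003d00013600000200004600005100000d00004e)) (.leaf (nat_lit 0x47200052200000000005700010800000900007c))) (.node (.leaf (nat_lit 0x33d00016d00025e0000000000390000d0000002000097)) (.leaf (nat_lit 0x73d0003d500071a00071d0000010000310001d00000060000f7))))) (.node (.node (.node (.node (.leaf (nat_lit 0xc100007500006200000000002e00002c00000b000017)) (.leaf (nat_lit 0x71d0008ad0001ae0000000000570001c7000000000069))) (.leaf (nat_lit 0x4c10004360004390004be00000000004800013100000d000130))) (.node (.leaf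 (nat_lit 0x2c100010d00013a0000000000270000b100000300004f)) (.leaf (nat_lit 0x6c100035900034e00035500037a00000000004b0001b100000c0000df)))) (.node (.node (.leaf (nat_lit 0x7200000c000012)) (.leaf (nat_lit 0x1720000080000a6))) (.node (.leaf (nat_lit 0xf200000a000069)) (.leaf (nat_lit 0x7c10006a90006120000030000390001f000000c000184))))))) (.node (.node (.node (.node (.node (.node (.leaf (nat_lit 0xa000001000008)) (.leaf (nat_lit 0x8210004e100081e00000100003f00020700000d000207))) (.leaf (nat_lit 0x41d0001ed0001f600000300000300010800000200007e))) (.node (.leaf (nat_lit 0x8a000001000016)) (.leaf (nat_lit 0x61d00030500061600000200004600018800000d000186)))) (.node (.node (.leaf (nat_lit 0x10e00011100004200000100000100000f000004000011)) (.leaf (nat_lit 0x4cd000505000202000000000057000133000000000080))) (.node (.leaf (nat_lit 0xca000007000051)) (.leaf (nat_lit 0x1ca00000c0000e6))))) (.node (.node (.node (.node (.leaf (nat_lit 0x2a00000900000a)) (.leaf (nat_lit 0x78200089d0001750000000000570001d4000000000011)))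 (.leaf (nat_lit 0x49d00027200027900000300001b000128000004000084))) (.node (.leaf (nat_lit 0x29d0001ed0001fe0000010000120000a6000001000080)) (.leaf (nat_lit 0x6a100069600069d0005cd0005f600000000004c0001a900000e00017c)))) (.node (.node (.leaf (nat_lit 0x1a1000192000195000002000001000069000004000012)) (.leaf (nat_lit 0x59900029d00043200000200001800016700000500010d))) (.node (.leaf (nat_lit 0xea00000b000065)) (.leaf (nat_lit 0x1ea00000e000108)))))) (.node (.node (.node (.node (.node (.leaf (nat_lit 0x6100002e000031000000000006000017000007000008)) (.leaf (nat_lit 0x63d00063a00063500086100085600000400004f000190000005000130))) (.leaf (nat_lit 0x11a00000a00007c))) (.node (.leaf (nat_lit 0x26100007d0000520001f200000200004800009900000200007d)) (.leaf (nat_lit 0x6610003390002ee0002f500037a00000200004f0001980000080000df)))) (.node (.node (.leaf (nat_lit 0x15d00012100012d000003000009000056000006000011)) (.leaf (nat_lit 0x55d0004ad0002490000de0002b200000000004b00011300000c0000ad))) (.node (.leaf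 (nat_lit 0xda00000c00005e)) (.leaf (nat_lit 0x7610003e10003ea0000020000390001d90000010000fb))))) (.node (.node (.node (.node (.leaf (nat_lit 0x3a00000c00000a)) (.leaf (nat_lit 0x8e10008cd0000000000570000e300000000006d))) (.leaf (nat_lit 0x13a00000100008a))) (.node (.leaf (nat_lit 0x2d900011500012d0001820000020000300000b7000008000061)) (.leaf (nat_lit 0x6e100036100017900035a0006de00000200004b0001b900000a0001b8)))) (.node (.node (.leaf (nat_lit 0x1d100004d00005a00000000003d00007500000c000017)) (.leaf (nat_lit 0x5e10005d60005dd00000100000d000179000006000103))) (.node (.leaf (nat_lit 0x3e10003ca0003cd0000000000150000f90000080000e6)) (.leaf (nat_lit 0x1fa00000a00011e)))))))) (.node (.node (.node (.node (.node (.node (.node (.leaf (nat_lit 0x2b00000000005700000000000b000000)) (.leaf (nat_lit 0x81100080200080d0000020000250002050000090001eb))) (.leaf (nat_lit 0x4110002150001fa00000300001c00010300000800007f))) (.node (.leaf (nat_lit 0x86000008000015)) (.leaf (nat_lit 0x1860000090000c1))))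 (.node (.node (.leaf (nat_lit 0x10d00003900008600009900003a00000300004e00004400000600000f)) (.leaf (nat_lit 0x4b500050500045600000000005700012d000000000116))) (.node (.leaf (nat_lit 0x3090002ce0002d50000000000120000c300000600005e)) (.leaf (nat_lit 0x70d0003750007060000010000450001c400000d0001c2))))) (.node (.node (.node (.node (.leaf (nat_lit 0x8500003100005a000001000019000022000005000017)) (.leaf (nat_lit 0x7090008920006ed0000000000570001c20000000000dc))) (.leaf (nat_lit 0x49100042600042900000000000c00012500000500007f))) (.node (.leaf (nat_lit 0xa600000e00002a)) (.leaf (nat_lit 0x68100068a0006910000020000240001a100000b0000cd)))) (.node (.node (.leaf (nat_lit 0x191000045000131000046000003000048000065000002000012)) (.leaf (nat_lit 0x59100057500000000001f0001620000090000a6))) (.node (.leaf (nat_lit 0xe600000a000065)) (.leaf (nat_lit 0x78a00078d0004050004010001ca0003ee0003f50003f900035200035500018d00036e0006f20007120007150000010000540001e000000e0001c2)))))) (.node (.node (.node (.node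 (.node (.leaf (nat_lit 0x16000009000015)) (.leaf (nat_lit 0x84d0008510000000000570001300000010001b1))) (.leaf (nat_lit 0x11600000900007c))) (.node (.leaf (nat_lit 0x2510000b50000ba00000000000100009100000100002c)) (.leaf (nat_lit 0x1960000030000c8)))) (.node (.node (.leaf (nat_lit 0x56000001000011)) (.leaf (nat_lit 0x21e000531000000000057000015000009000015))) (.node (.leaf (nat_lit 0x34d0001690001860000020000250000d4000009000062)) (.leaf (nat_lit 0x7510003dd0001c20004020000030000480001d5000002000101))))) (.node (.node (.node (.node (.leaf (nat_lit 0xc90000350000a600000200004600003300000d00002a)) (.leaf (nat_lit 0x7650008b60008cd0003b60000000000570001d90000000000ed))) (.leaf (nat_lit 0x4d100021100023e00000000004600013500000d00008f))) (.node (.leaf (nat_lit 0x2c90002c60002d10000010000000000b100000200005e)) (.leaf (nat_lit 0x6d10006c20006c50000000000250001b500000a0000df)))) (.node (.node (.leaf (nat_lit 0x1d10000fa00010100000300000300007500000200002a)) (.leaf (nat_lit 0x1760000010000ab)))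 (.node (.leaf (nat_lit 0x3d10003be0003c100000000001b0000f50000080000e3)) (.leaf (nat_lit 0x5910005ea0007d10006be0006b900000000004c00016200000e000186))))))) (.node (.node (.node (.node (.node (.node (.leaf (nat_lit 0x2d00002100002a00000100003f00000a00000d00000a)) (.leaf (nat_lit 0x82d0004c600083200000000004000020c00000d00020c))) (.leaf (nat_lit 0x43100041e00042900000100000000010d00000200007f))) (.node (.leaf (nat_lit 0x2310000550001fa00000000002800008d00000900007f)) (.leaf (nat_lit 0x63100031100036200000100003d00018d0000030000d9)))) (.node (.node (.leaf (nat_lit 0x4e00000900000f)) (.leaf (nat_lit 0x4b200051900000000005700007e000009000108))) (.node (.leaf (nat_lit 0x3310002de0002e10003320000000000480000cd00000d0000cd)) (.leaf (nat_lit 0x7310003b50003da0000020000390001cd0000010000f7))))) (.node (.node (.node (.node (.leaf (nat_lit 0xad00002500006e00000000002700002c00000300001c)) (.leaf (nat_lit 0x4020008a90003fa0000000000570000700000000000fb))) (.leaf (nat_lit 0x4b100022a00000000001f00012d00000900008a)))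 (.node (.leaf (nat_lit 0x2b10000d50002960002a50000020000480000ad000002000080)) (.leaf (nat_lit 0x1ae00000b0000cf)))) (.node (.node (.leaf (nat_lit 0x6e00000a000012)) (.leaf (nat_lit 0x59d0002b10000cd0000be0002aa00000200004f0001670000080000ab))) (.node (.leaf (nat_lit 0x3b10001a10001b20000030000280000ed00000100006d)) (.leaf (nat_lit 0x7b100047500041e0006020006b200000300004e0001ed0000060001ab)))))) (.node (.node (.node (.node (.node (.leaf (nat_lit 0x6d00004e00004900000200002400001c00000b000008)) (.leaf (nat_lit 0x67e00087100047e00000000005700019600000000011f))) (.leaf (nat_lit 0x11e00000e00007c))) (.node (.leaf (nat_lit 0x26d0001ed0001fe00000300000c000099000005000080)) (.leaf (nat_lit 0x67100066a00066d00000200000700019d0000080000cf)))) (.node (.node (.leaf (nat_lit 0x5e00000a000011)) (.leaf (nat_lit 0x56d00055a00057100000000002500012100000a0000a6))) (.node (.leaf (nat_lit 0x37100032e0003290003720000000000480000dd00000d0000dd)) (.leaf (nat_lit 0x7710003fd0003ea0003f100074e00000000004b0001dd00000c0001d4)))))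 (.node (.node (.node (.node (.leaf (nat_lit 0xe500002500004e00000200003900003a000001000013)) (.leaf (nat_lit 0x57e0008f100005d0000000000570000da000000000008))) (.leaf (nat_lit 0x4e500022d00026e00000000003a00013a00000c000099))) (.node (.leaf (nat_lit 0x2f10002d500018e0000010000400000bb000006000062)) (.leaf (nat_lit 0x1be00000c0000dc)))) (.node (.node (.leaf (nat_lit 0x7e000003000015)) (.leaf (nat_lit 0x5ed0005b20005b500000300002d00017c00000b0000ab))) (.node (.leaf (nat_lit 0x3e90001ce0003ee0000010000450000fb00000d0000fb)) (.leaf (nat_lit 0x1fe00000600011f)))))))))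

noncomputable def sAG_t3 : FT := (.node (.node (.node (.node (.node (.node (.node (.node (.leaf (nat_lit 0x1b000000000057000000000007000000)) (.leaf (nat_lit 0x8090007f10007ae00000000004500020100000b0001eb))) (.leaf (nat_lit 0x4090001d90001d600040a00000000004800010300000d000103))) (.node (.leaf (nat_lit 0x84000007000015)) (.leaf (nat_lit 0x1840000010000c1)))) (.node (.node (.leaf (nat_lit 0x4400000100000f)) (.leaf (nat_lit 0x2320005010001f1000000000057000016000000000015))) (.node (.leaf (nat_lit 0x3090002c60002c90000020000000000c300000200004f)) (.leaf (nat_lit 0x1c400000c0000dd))))) (.node (.node (.node (.node (.leaf (nat_lit 0x8500002500005a000003000003000022000002000017)) (.leaf (nat_lit 0x88900081100087a0006f60000020000310002010000080001be))) (.leaf (nat_lit 0x48100021200044200000200004000012100000d000110))) (.node (.leaf (nat_lit 0x28900009100008e00028a0000000000480000a300000d0000a3)) (.leaf (nat_lit 0x6890006860000000000220001a300000b0001a2)))) (.node (.node (.leaf (nat_lit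 0x18500013100017600000100004500006200000d00005e)) (.leaf (nat_lit 0x58500029d00041e000001000019000162000005000108))) (.node (.leaf (nat_lit 0x3890001990001b20000000000330000e300000600006d)) (.leaf (nat_lit 0x7850003fd0001b50001be00040200000200004c0001e2000009000101)))))) (.node (.node (.node (.node (.node (.leaf (nat_lit 0x4900001d00001500001100001e00000000004b00001300000c000008)) (.leaf (nat_lit 0x82e0008490000000000570001300000010001b5))) (.leaf (nat_lit 0x4490002be0002b900000000000600011300000700007d))) (.node (.leaf (nat_lit 0x24100006500006e00000200003600009100000700001c)) (.leaf (nat_lit 0x1940000020000c8)))) (.node (.node (.leaf (nat_lit 0x14900014200000000002200005300000b000051)) (.leaf (nat_lit 0x4ca000525000000000057000080000009000080))) (.node (.leaf (nat_lit 0xd400000c00005b)) (.leaf (nat_lit 0x1d400000e0000f7))))) (.node (.node (.node (.node (.leaf (nat_lit 0xc900002900007600000000003900003300000200001c)) (.leaf (nat_lit 0x8b50003f10008ad0001b200000000005700007000000000006d)))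 (.leaf (nat_lit 0x4c900020100022e00000000004600013300000d00008a))) (.node (.leaf (nat_lit 0x2c100012100013a0000020000330000b100000500004f)) (.leaf (nat_lit 0x6c90006c200000000001f0001b30000090001b1)))) (.node (.node (.leaf (nat_lit 0x1c50001610001b600000100004500007200000d00006e)) (.leaf (nat_lit 0x5c50005960005b900000300003600017200000a0000ab))) (.node (.leaf (nat_lit 0x3c50001a50001b600039a00000100002b0000f20000020000e6)) (.leaf (nat_lit 0x7b90007be0007c90000030000130001ef00000600018b))))))) (.node (.node (.node (.node (.node (.node (.leaf (nat_lit 0x2500001d00000600000e00001e00000300004e00000a000006000008)) (.leaf (nat_lit 0x20c000002000130))) (.leaf (nat_lit 0x41d0001ed00005600023a00000300002b00010800000a00008f))) (.node (.leaf (nat_lit 0x2250000820001ee00000000003a00008a00000c00007c)) (.leaf (nat_lit 0x62900061e00000000002200018b00000b000188)))) (.node (.node (.leaf (nat_lit 0x12200011500012900000100000700000f000008000011)) (.leaf (nat_lit 0x22100050d000056000000000057000088000000000016)))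 (.node (.leaf (nat_lit 0x3250002e20002e50000000000160000ca000002000061)) (.leaf (nat_lit 0x7250003a10003ea00000100002e0001ca0000080000fb))))) (.node (.node (.node (.node (.leaf (nat_lit 0x2c00000a00000a)) (.leaf (nat_lit 0x74e0008a50000460000000000570000f7000000000012))) (.leaf (nat_lit 0x4a500027a0002610000c200025200000100004e00012800000e000091))) (.node (.leaf (nat_lit 0x2a90002520002550002aa0000000000480000ab00000d0000ab)) (.leaf (nat_lit 0x6a90003350006a20000010000450001ab00000d0001a9)))) (.node (.node (.leaf (nat_lit 0x1a900019a00019d000000000006000069000007000012)) (.leaf (nat_lit 0x5990005760004850002b600000000002b0001670000090000ad))) (.node (.leaf (nat_lit 0x3a50001910001be00000100003a0000ea000001000070)) (.leaf (nat_lit 0x7a90004390004260007a60000000000480001eb00000d0001ea)))))) (.node (.node (.node (.node (.node (.leaf (nat_lit 0x1c00000a000008)) (.leaf (nat_lit 0x8410008690007e20007ea00000100002500020f0000000001fa))) (.leaf (nat_lit 0x11c00000b00007c))) (.node (.leaf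 (nat_lit 0x26100007d0000520001ee00000300004900009900000100007c)) (.leaf (nat_lit 0x66900064600064900000200000d00019b0000060000cf)))) (.node (.node (.leaf (nat_lit 0x16900004100013600000200002700005b00000200004e)) (.leaf (nat_lit 0x48d00055900040d00000000004500012100000b000103))) (.node (.leaf (nat_lit 0xdc00000e00005e)) (.leaf (nat_lit 0x76900072e0007290000000000070001d90000050000fb))))) (.node (.node (.node (.node (.leaf (nat_lit 0xe500003100004e00000000002d00003a000007000013)) (.leaf (nat_lit 0x3b60008d90008e500000000005700006d00000200006d))) (.leaf (nat_lit 0x4e500022500023a00000300000000013a00000300008f))) (.node (.leaf (nat_lit 0x2e900010d00014a0000020000390000bb000001000053)) (.leaf (nat_lit 0x1bc00000a0000dc)))) (.node (.node (.leaf (nat_lit 0x7c000001000015)) (.leaf (nat_lit 0x17c0000050000ab))) (.node (.leaf (nat_lit 0x3e90001b50001c60000030000240000fb00000a000072)) (.leaf (nat_lit 0x1fc00000c00011e)))))))) (.node (.node (.node (.node (.node (.node (.node (.leaf (nat_lit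 0x800000e000000)) (.leaf (nat_lit 0x8190004bd0002120004da000003000048000207000002000137))) (.leaf (nat_lit 0x10800000300007c))) (.node (.leaf (nat_lit 0x8800000a000015)) (.leaf (nat_lit 0x18800000b0000c1)))) (.node (.node (.leaf (nat_lit 0x11a00010d00011200011a00000000004800004400000d000044)) (.leaf (nat_lit 0x22a00050500046600000000005700007e00000000011a))) (.node (.leaf (nat_lit 0xc800000e00004f)) (.leaf (nat_lit 0x7190003910003da00000000002d0001c70000070000f7))))) (.node (.node (.node (.node (.leaf (nat_lit 0x9500006500002e00000000000900002200000700000a)) (.leaf (nat_lit 0x79500089500036d0000000000570001e000000000005e))) (.leaf (nat_lit 0x12800000800007e))) (.node (.leaf (nat_lit 0x2950001de0001d10000520001ee00000400004f0000a600000500007c)) (.leaf (nat_lit 0x6810006860006990005690005d200000000004c0001a100000e000172)))) (.node (.node (.leaf (nat_lit 0x19900019600019100000000000c000065000005000012)) (.leaf (nat_lit 0x5990002a50002b60000000000000001670000030000ad))) (.node (.leaf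 (nat_lit 0x39500019d0001b60000020000330000e600000500006e)) (.leaf (nat_lit 0x1e800000a000101)))))) (.node (.node (.node (.node (.node (.leaf (nat_lit 0x59000026000029000002000001000017000004000008)) (.leaf (nat_lit 0x6e900085a0006c60000000000570001b90000000001b1))) (.leaf (nat_lit 0x45500043200043900022a00000400002b00011600000300008a))) (.node (.leaf (nat_lit 0x2590000ea0000e500003a00013600000100004c00009700000b00004e)) (.leaf (nat_lit 0x1980000040000c8)))) (.node (.node (.leaf (nat_lit 0x15500012e00010e000001000016000056000007000044)) (.leaf (nat_lit 0x4510005510004a6000000000028000113000009000128))) (.node (.leaf (nat_lit 0x35900017100016e00035a0000000000480000d700000d0000d7)) (.leaf (nat_lit 0x7590007520007550000000000100001d7000001000101))))) (.node (.node (.node (.node (.leaf (nat_lit 0xd90000ad00009e00000000003700003300000a000022)) (.leaf (nat_lit 0x8ca00073a0008b9000199000000000057000065000000000012))) (.leaf (nat_lit 0x13800000e000086))) (.node (.leaf (nat_lit 0x2d90001110001420000000000390000b7000002000051))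 (.leaf (nat_lit 0x1b800000c0000d7)))) (.node (.node (.leaf (nat_lit 0x1d10000ee00010100000000001b00007500000800002a)) (.leaf (nat_lit 0x5d90004a1000416000000000007000176000005000103))) (.node (.leaf (nat_lit 0xf800000e00006d)) (.leaf (nat_lit 0x1f800000900011e))))))) (.node (.node (.node (.node (.node (.node (.leaf (nat_lit 0x3900002500002a00003a00000000004800000f00000d00000f)) (.leaf (nat_lit 0x8390004bd00043a0005a60007d900000200004f00020f000008000188))) (.leaf (nat_lit 0x11000000700007c))) (.node (.leaf (nat_lit 0x2390000820001f600000000003d00008f00000c00007e)) (.leaf (nat_lit 0x19000000e0000c7)))) (.node (.node (.leaf (nat_lit 0x13900013600000000001f00004f00000900004e)) (.leaf (nat_lit 0x46600051e00000000005700007c00000900007e))) (.node (.leaf (nat_lit 0xd000000b00005b)) (.leaf (nat_lit 0x1d000000c0000f5))))) (.node (.node (.node (.node (.leaf (nat_lit 0xad00003100006e00000200003300002c00000500001c)) (.leaf (nat_lit 0x7410008ad0001a20000000000570001d0000000000069))) (.leaf (nat_lit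 0x13000000e00007e))) (.node (.leaf (nat_lit 0x2b90001f10001ee00000200000d0000ad00000600007c)) (.leaf (nat_lit 0x6b500062200062e0000010000240001ae00000900018b)))) (.node (.node (.leaf (nat_lit 0x7000000b000012)) (.leaf (nat_lit 0x1700000070000a6))) (.node (.leaf (nat_lit 0x3b10001ad0001b20000010000370000ed00000700006d)) (.leaf (nat_lit 0x1f000000500011e)))))) (.node (.node (.node (.node (.node (.leaf (nat_lit 0x6d00002100004e00000000004600001c00000d000013)) (.leaf (nat_lit 0x8690004bd0005420005350007a600000000004b0001ef00000c0001ea))) (.leaf (nat_lit 0x47900026600026d00047600000000004800011f00000d00011e))) (.node (.leaf (nat_lit 0x20900026600026a00000000003f000082000005000099)) (.leaf (nat_lit 0x67100032100065600000200004300019d00000d000196)))) (.node (.node (.leaf (nat_lit 0x17500012a00013a00000300003700005e00000800004f)) (.leaf (nat_lit 0x57900029100018a00036a00000200002b00015f0000040000da))) (.node (.leaf (nat_lit 0xe0000003000065)) (.leaf (nat_lit 0x1e000000b000100))))) (.node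 (.node (.node (.node (.leaf (nat_lit 0xe500008a0000e200000200003c00003a00000300002a)) (.leaf (nat_lit 0x1860008f900004d000000000057000011000000000008))) (.leaf (nat_lit 0x4f90004f60004f900000000002100013a000000000099))) (.node (.leaf (nat_lit 0x2f900013500014a0000020000250000bf000009000053)) (.leaf (nat_lit 0x6f500036d00017500018200037200000200004c0001be0000090000dd)))) (.node (.node (.leaf (nat_lit 0x80000005000015)) (.leaf (nat_lit 0x1800000060000ab))) (.node (.leaf (nat_lit 0x10000000e00006e)) (.leaf (nat_lit 0x20000000900011f)))))))))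

noncomputable def sAG_t : FT := (.node (.node sAG_t0 sAG_t1) (.node sAG_t2 sAG_t3))

theorem sAG_s0 : stepsC Cfsg.Agent.PS4.PG [[0], [1], [2], [3], [4], [5], [6], [7], [8], [9], [10], [11], [12]] sAG_t 577 0 = true :=
  by decide +kernel

theorem sAG_ok : SeqOK Cfsg.Agent.PS4.PG [[0], [1], [2], [3], [4], [5], [6], [7], [8], [9], [10], [11], [12]] sAG_t 577 :=
  (seqOK_zero Cfsg.Agent.PS4.PG [[0], [1], [2], [3], [4], [5], [6], [7], [8], [9], [10], [11], [12]] sAG_t).step 577 sAG_s0

theorem sAG_0 : InSub Cfsg.Agent.PS4.PG [[0], [1], [2], [3], [4], [5], [6], [7], [8], [9], [10], [11], [12]] [13, 0, 13, 3, 13] :=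
  sAG_ok.inSub (z := nat_lit 0x1e00090200003900002500001d) (by decide +kernel)

theorem sAG_1 : InSub Cfsg.Agent.PS4.PG [[0], [1], [2], [3], [4], [5], [6], [7], [8], [9], [10], [11], [12]] [13, 8, 13, 8, 13, 9, 13] :=
  sAG_ok.inSub (z := nat_lit 0x1e00004a00005200055500005100004900001d) (by decide +kernel)

namespace AG
noncomputable def m0_0 : ℕ := nat_lit 0x5a7dc2

noncomputable def m0_1 : ℕ := nat_lit 0xa44000ffa

noncomputable def m0_2 : ℕ := nat_lit 0x1502901b012

noncomputable def m0_3 : ℕ := nat_lit 0x410c60471c6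

noncomputable def m0_4 : ℕ := nat_lit 0x40240008248

noncomputable def m0_5 : ℕ := nat_lit 0x482490410490

noncomputable def m0_6 : ℕ := nat_lit 0x48000240000

noncomputable def m0_7 : ℕ := nat_lit 0x4000002

noncomputable def m0_8 : ℕ := nat_lit 0x1603a018010

noncomputable def m0_9 : ℕ := nat_lit 0xfb2000c80

noncomputable def m0_10 : ℕ := nat_lit 0x41a75c

noncomputable def net0 : Net := (.cons 24 m0_0 (.cons 12 m0_1 (.cons 6 m0_2 (.cons 3 m0_3 (.cons 1 m0_4 (.cons 1 m0_5 (.cons 1 m0_6 (.cons 3 m0_7 (.cons 6 m0_8 (.cons 12 m0_9 (.cons 24 m0_10 .nil)))))))))))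

theorem ok0 : Net.ok 48 net0 = true :=
  by decide +kernel

noncomputable def net1 : Net := (.cons 24 m0_10 (.cons 12 m0_9 (.cons 6 m0_8 (.cons 3 m0_7 (.cons 1 m0_6 (.cons 1 m0_5 (.cons 1 m0_4 (.cons 3 m0_3 (.cons 6 m0_2 (.cons 12 m0_1 (.cons 24 m0_0 .nil)))))))))))

theorem ok1 : Net.ok 48 net1 = true :=
  by decide +kernel

noncomputable def m2_0 : ℕ := nat_lit 0xba89e4

noncomputable def m2_1 : ℕ := nat_lit 0x61b0007b0

noncomputable def m2_2 : ℕ := nat_lit 0x2300a035004

noncomputable def m2_3 : ℕ := nat_lit 0x1c01420c3102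

noncomputable def m2_4 : ℕ := nat_lit 0x8001001040

noncomputable def m2_5 : ℕ := nat_lit 0x410012402480

noncomputable def m2_6 : ℕ := nat_lit 0x40000200048

noncomputable def m2_7 : ℕ := nat_lit 0x106004100002

noncomputable def m2_8 : ℕ := nat_lit 0x3c00202a034

noncomputable def m2_9 : ℕ := nat_lit 0x430000674

noncomputable def m2_10 : ℕ := nat_lit 0xbd0ba4

noncomputable def net2 : Net := (.cons 24 m2_0 (.cons 12 m2_1 (.cons 6 m2_2 (.cons 3 m2_3 (.cons 1 m2_4 (.cons 1 m2_5 (.cons 1 m2_6 (.cons 3 m2_7 (.cons 6 m2_8 (.cons 12 m2_9 (.cons 24 m2_10 .nil)))))))))))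

theorem ok2 : Net.ok 48 net2 = true :=
  by decide +kernel

noncomputable def net3 : Net := (.cons 24 m2_10 (.cons 12 m2_9 (.cons 6 m2_8 (.cons 3 m2_7 (.cons 1 m2_6 (.cons 1 m2_5 (.cons 1 m2_4 (.cons 3 m2_3 (.cons 6 m2_2 (.cons 12 m2_1 (.cons 24 m2_0 .nil)))))))))))

theorem ok3 : Net.ok 48 net3 = true :=
  by decide +kernel

noncomputable def m4_0 : ℕ := nat_lit 0xbe68

noncomputable def m4_1 : ℕ := nat_lit 0xd3c000454

noncomputable def m4_2 : ℕ := nat_lit 0x3903503700c

noncomputable def m4_3 : ℕ := nat_lit 0x1420410411c4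

noncomputable def m4_4 : ℕ := nat_lit 0x48008

noncomputable def m4_5 : ℕ := nat_lit 0x490402492012

noncomputable def m4_6 : ℕ := nat_lit 0x241201009200

noncomputable def m4_7 : ℕ := nat_lit 0x2180104000

noncomputable def m4_8 : ℕ := nat_lit 0x2c038002008

noncomputable def m4_9 : ℕ := nat_lit 0xc94000de2

noncomputable def m4_10 : ℕ := nat_lit 0x47ec0

noncomputable def net4 : Net := (.cons 24 m4_0 (.cons 12 m4_1 (.cons 6 m4_2 (.cons 3 m4_3 (.cons 1 m4_4 (.cons 1 m4_5 (.cons 1 m4_6 (.cons 3 m4_7 (.cons 6 m4_8 (.cons 12 m4_9 (.cons 24 m4_10 .nil)))))))))))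

theorem ok4 : Net.ok 48 net4 = true :=
  by decide +kernel

noncomputable def net5 : Net := (.cons 24 m4_10 (.cons 12 m4_9 (.cons 6 m4_8 (.cons 3 m4_7 (.cons 1 m4_6 (.cons 1 m4_5 (.cons 1 m4_4 (.cons 3 m4_3 (.cons 6 m4_2 (.cons 12 m4_1 (.cons 24 m4_0 .nil)))))))))))

theorem ok5 : Net.ok 48 net5 = true :=
  by decide +kernel

noncomputable def m6_0 : ℕ := nat_lit 0xf83896

noncomputable def m6_1 : ℕ := nat_lit 0x70d000140

noncomputable def m6_2 : ℕ := nat_lit 0x3603b02d02a

noncomputable def m6_3 : ℕ := nat_lit 0x40080000006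

noncomputable def m6_4 : ℕ := nat_lit 0x8200040

noncomputable def m6_5 : ℕ := nat_lit 0x490092482082

noncomputable def m6_6 : ℕ := nat_lit 0x209201200248

noncomputable def m6_7 : ℕ := nat_lit 0x180100184

noncomputable def m6_8 : ℕ := nat_lit 0xa028012

noncomputable def m6_9 : ℕ := nat_lit 0x7800001bc

noncomputable def m6_10 : ℕ := nat_lit 0xe149fc

noncomputable def net6 : Net := (.cons 24 m6_0 (.cons 12 m6_1 (.cons 6 m6_2 (.cons 3 m6_3 (.cons 1 m6_4 (.cons 1 m6_5 (.cons 1 m6_6 (.cons 3 m6_7 (.cons 6 m6_8 (.cons 12 m6_9 (.cons 24 m6_10 .nil)))))))))))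

theorem ok6 : Net.ok 48 net6 = true :=
  by decide +kernel

noncomputable def net7 : Net := (.cons 24 m6_10 (.cons 12 m6_9 (.cons 6 m6_8 (.cons 3 m6_7 (.cons 1 m6_6 (.cons 1 m6_5 (.cons 1 m6_4 (.cons 3 m6_3 (.cons 6 m6_2 (.cons 12 m6_1 (.cons 24 m6_0 .nil)))))))))))

theorem ok7 : Net.ok 48 net7 = true :=
  by decide +kernel

noncomputable def m8_0 : ℕ := nat_lit 0x800470

noncomputable def m8_1 : ℕ := nat_lit 0x6b0000c28

noncomputable def m8_2 : ℕ := nat_lit 0x1400c03403e

noncomputable def m8_3 : ℕ := nat_lit 0x1c60c20070c4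

noncomputable def m8_4 : ℕ := nat_lit 0x48041001208

noncomputable def m8_5 : ℕ := nat_lit 0x490092402410

noncomputable def m8_6 : ℕ := nat_lit 0x240001208

noncomputable def m8_7 : ℕ := nat_lit 0x104084104004

noncomputable def m8_8 : ℕ := nat_lit 0xa00a034038

noncomputable def m8_9 : ℕ := nat_lit 0x6f4000c2a

noncomputable def m8_10 : ℕ := nat_lit 0x8000e2

noncomputable def net8 : Net := (.cons 24 m8_0 (.cons 12 m8_1 (.cons 6 m8_2 (.cons 3 m8_3 (.cons 1 m8_4 (.cons 1 m8_5 (.cons 1 m8_6 (.cons 3 m8_7 (.cons 6 m8_8 (.cons 12 m8_9 (.cons 24 m8_10 .nil)))))))))))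

theorem ok8 : Net.ok 48 net8 = true :=
  by decide +kernel

noncomputable def net9 : Net := (.cons 24 m8_10 (.cons 12 m8_9 (.cons 6 m8_8 (.cons 3 m8_7 (.cons 1 m8_6 (.cons 1 m8_5 (.cons 1 m8_4 (.cons 3 m8_3 (.cons 6 m8_2 (.cons 12 m8_1 (.cons 24 m8_0 .nil)))))))))))

theorem ok9 : Net.ok 48 net9 = true :=
  by decide +kernel

noncomputable def m10_0 : ℕ := nat_lit 0x591de

noncomputable def m10_1 : ℕ := nat_lit 0xe8d00054a

noncomputable def m10_2 : ℕ := nat_lit 0x27003006018

noncomputable def m10_3 : ℕ := nat_lit 0x40000005042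

noncomputable def m10_4 : ℕ := nat_lit 0x1040000000

noncomputable def m10_5 : ℕ := nat_lit 0x482082410080

noncomputable def m10_6 : ℕ := nat_lit 0x200001201248

noncomputable def m10_7 : ℕ := nat_lit 0x84002086102

noncomputable def m10_8 : ℕ := nat_lit 0x2c00001c014

noncomputable def m10_9 : ℕ := nat_lit 0xe0c000d42

noncomputable def m10_10 : ℕ := nat_lit 0x1197d2

noncomputable def net10 : Net := (.cons 24 m10_0 (.cons 12 m10_1 (.cons 6 m10_2 (.cons 3 m10_3 (.cons 1 m10_4 (.cons 1 m10_5 (.cons 1 m10_6 (.cons 3 m10_7 (.cons 6 m10_8 (.cons 12 m10_9 (.cons 24 m10_10 .nil)))))))))))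

theorem ok10 : Net.ok 48 net10 = true :=
  by decide +kernel

noncomputable def net11 : Net := (.cons 24 m10_10 (.cons 12 m10_9 (.cons 6 m10_8 (.cons 3 m10_7 (.cons 1 m10_6 (.cons 1 m10_5 (.cons 1 m10_4 (.cons 3 m10_3 (.cons 6 m10_2 (.cons 12 m10_1 (.cons 24 m10_0 .nil)))))))))))

theorem ok11 : Net.ok 48 net11 = true :=
  by decide +kernel

noncomputable def m12_0 : ℕ := nat_lit 0x540000000

noncomputable def m12_1 : ℕ := nat_lit 0x2102000c014

noncomputable def m12_2 : ℕ := nat_lit 0x182080081084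

noncomputable def m12_3 : ℕ := nat_lit 0x40041200

noncomputable def m12_4 : ℕ := nat_lit 0x482080092410

noncomputable def m12_5 : ℕ := nat_lit 0x8240248240

noncomputable def m12_6 : ℕ := nat_lit 0x2080086084

noncomputable def m12_7 : ℕ := nat_lit 0x2000000c014

noncomputable def m12_8 : ℕ := nat_lit 0x540000000

noncomputable def net12 : Net := (.cons 12 m12_0 (.cons 6 m12_1 (.cons 3 m12_2 (.cons 1 m12_3 (.cons 1 m12_4 (.cons 1 m12_5 (.cons 3 m12_6 (.cons 6 m12_7 (.cons 12 m12_8 .nil)))))))))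

theorem ok12 : Net.ok 48 net12 = true :=
  by decide +kernel

noncomputable def m13_0 : ℕ := nat_lit 0xffff40

noncomputable def m13_1 : ℕ := nat_lit 0x50a000000

noncomputable def m13_2 : ℕ := nat_lit 0x34028006000

noncomputable def m13_3 : ℕ := nat_lit 0x1c7187002145

noncomputable def m13_4 : ℕ := nat_lit 0x200200008241

noncomputable def m13_5 : ℕ := nat_lit 0x480400010492

noncomputable def m13_6 : ℕ := nat_lit 0x40240048248

noncomputable def m13_7 : ℕ := nat_lit 0x180000002

noncomputable def m13_8 : ℕ := nat_lit 0x34028002000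

noncomputable def m13_9 : ℕ := nat_lit 0x50a000000

noncomputable def m13_10 : ℕ := nat_lit 0xffff40

noncomputable def net13 : Net := (.cons 24 m13_0 (.cons 12 m13_1 (.cons 6 m13_2 (.cons 3 m13_3 (.cons 1 m13_4 (.cons 1 m13_5 (.cons 1 m13_6 (.cons 3 m13_7 (.cons 6 m13_8 (.cons 12 m13_9 (.cons 24 m13_10 .nil)))))))))))

theorem ok13 : Net.ok 48 net13 = true :=
  by decide +kernel

noncomputable def nets : List Net := [net0, net1, net2, net3, net4, net5, net6, net7, net8, net9, net10, net11, net12, net13]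

noncomputable def act : Act := netAct' nets
noncomputable def π : ℕ → Equiv.Perm ℕ := netPerm nets

theorem spec : act.Spec 48 π :=
  spec_fast (netAct_spec (AllP.forall (p := fun t => Net.ok 48 t = true) ⟨ok0, ok1, ok2, ok3, ok4, ok5, ok6, ok7, ok8, ok9, ok10, ok11, ok12, ok13, trivial⟩))

theorem out : ∀ k, 14 ≤ k → π k = 1 :=
  netPerm_out nets

theorem sat_inv_0 : invC Cfsg.Agent.PS4.AG.act Cfsg.Agent.PS4.PG.I 48 6 Cfsg.Agent.PS4.PG.inv.length [0, 1, 2, 3, 4, 5] = true :=
  by decide +kernel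

theorem sat_inv : ∀ k, Cfsg.Agent.PS4.AG.π (Cfsg.Agent.PS4.PG.I k) * Cfsg.Agent.PS4.AG.π k = 1 :=
  inv_of_checks Cfsg.Agent.PS4.AG.spec (K := 6) (by decide) Cfsg.Agent.PS4.AG.out [[0, 1, 2, 3, 4, 5]] (by decide) ⟨sat_inv_0, trivial⟩

theorem sat_rel_0_0 : relsC Cfsg.Agent.PS4.AG.act Cfsg.Agent.PS4.PG.I 48 6 [[0, 0, 3, 3], [0, 2, 0, 3], [4, 4, 7, 7], [4, 6, 4, 7], [0, 0, 5, 5], [0, 0, 0, 0], [1, 5, 0, 4], [1, 7, 0, 6], [3, 5, 2, 4], [3, 7, 2, 6], [8, 8, 8], [10, 10, 10], [9, 11, 8, 10], [8, 0, 9, 3], [8, 2, 9, 3, 1], [10, 4, 11, 7], [10, 6, 11, 7, 5], [9, 5, 8, 4], [9, 7, 8, 6], [11, 1, 10, 0], [11, 3, 10, 2], [12, 0, 12, 5], [12, 2, 12, 7], [12, 8, 12, 11], [13, 0, 0, 13, 12], [13, 8, 10, 13, 8, 10], [13, 0, 4, 13, 7, 3], [13, 0, 13, 0, 13, 0, 13, 0, 13, 0], [13, 12, 8, 11, 13, 12, 8, 11, 13, 12, 8, 11, 13, 12, 8, 11]] [0, 1, 2, 3, 4, 5] = true :=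
  by decide +kernel

theorem sat_rel_0 : ∀ r ∈ ([[0, 0, 3, 3], [0, 2, 0, 3], [4, 4, 7, 7], [4, 6, 4, 7], [0, 0, 5, 5], [0, 0, 0, 0], [1, 5, 0, 4], [1, 7, 0, 6], [3, 5, 2, 4], [3, 7, 2, 6], [8, 8, 8], [10, 10, 10], [9, 11, 8, 10], [8, 0, 9, 3], [8, 2, 9, 3, 1], [10, 4, 11, 7], [10, 6, 11, 7, 5], [9, 5, 8, 4], [9, 7, 8, 6], [11, 1, 10, 0], [11, 3, 10, 2], [12, 0, 12, 5], [12, 2, 12, 7], [12, 8, 12, 11], [13, 0, 0, 13, 12], [13, 8, 10, 13, 8, 10], [13, 0, 4, 13, 7, 3], [13, 0, 13, 0, 13, 0, 13, 0, 13, 0], [13, 12, 8, 11, 13, 12, 8, 11, 13, 12, 8, 11, 13, 12, 8, 11]] : List (List ℕ)), ev Cfsg.Agent.PS4.AG.π r = 1 :=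
  rels_of_checks Cfsg.Agent.PS4.AG.spec (K := 6) (by decide) sat_inv _ [[0, 1, 2, 3, 4, 5]] (by decide) ⟨sat_rel_0_0, trivial⟩

theorem sat_rel : ∀ r ∈ ([[0, 0, 3, 3], [0, 2, 0, 3], [4, 4, 7, 7], [4, 6, 4, 7], [0, 0, 5, 5], [0, 0, 0, 0], [1, 5, 0, 4], [1, 7, 0, 6], [3, 5, 2, 4], [3, 7, 2, 6], [8, 8, 8], [10, 10, 10], [9, 11, 8, 10], [8, 0, 9, 3], [8, 2, 9, 3, 1], [10, 4, 11, 7], [10, 6, 11, 7, 5], [9, 5, 8, 4], [9, 7, 8, 6], [11, 1, 10, 0], [11, 3, 10, 2], [12, 0, 12, 5], [12, 2, 12, 7], [12, 8, 12, 11], [13, 0, 0, 13, 12], [13, 8, 10, 13, 8, 10], [13, 0, 4, 13, 7, 3], [13, 0, 13, 0, 13, 0, 13, 0, 13, 0], [13, 12, 8, 11, 13, 12, 8, 11, 13, 12, 8, 11, 13, 12, 8, 11]] : List (List ℕ)), ev Cfsg.Agent.PS4.AG.π r = 1 :=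
  rels_join [[[0, 0, 3, 3], [0, 2, 0, 3], [4, 4, 7, 7], [4, 6, 4, 7], [0, 0, 5, 5], [0, 0, 0, 0], [1, 5, 0, 4], [1, 7, 0, 6], [3, 5, 2, 4], [3, 7, 2, 6], [8, 8, 8], [10, 10, 10], [9, 11, 8, 10], [8, 0, 9, 3], [8, 2, 9, 3, 1], [10, 4, 11, 7], [10, 6, 11, 7, 5], [9, 5, 8, 4], [9, 7, 8, 6], [11, 1, 10, 0], [11, 3, 10, 2], [12, 0, 12, 5], [12, 2, 12, 7], [12, 8, 12, 11], [13, 0, 0, 13, 12], [13, 8, 10, 13, 8, 10], [13, 0, 4, 13, 7, 3], [13, 0, 13, 0, 13, 0, 13, 0, 13, 0], [13, 12, 8, 11, 13, 12, 8, 11, 13, 12, 8, 11, 13, 12, 8, 11]]] ⟨sat_rel_0, trivial⟩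

theorem sat : Sat Cfsg.Agent.PS4.PG Cfsg.Agent.PS4.AG.π :=
  ⟨Cfsg.Agent.PS4.AG.out, sat_inv, sat_rel⟩

noncomputable def done_tr0 : ℕ := nat_lit 0xaaaa0154594

noncomputable def done_tr1 : ℕ := nat_lit 0x14acbfd996ea

noncomputable def done_tr2 : ℕ := nat_lit 0x18cedfde282a

noncomputable def done_tr3 : ℕ := nat_lit 0x1111fe03f7a

noncomputable def done_t0_0 : ℕ := nat_lit 0xc787f803939

noncomputable def done_t0_1 : ℕ := nat_lit 0x1879fa8f081a

noncomputable def done_t0_2 : ℕ := nat_lit 0x1c781efcb7c0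

noncomputable def done_t0_3 : ℕ := nat_lit 0x18600000000

noncomputable def done_t1_0 : ℕ := nat_lit 0x1b861d0f393b

noncomputable def done_t1_1 : ℕ := nat_lit 0x19867abf0a1c

noncomputable def done_t1_2 : ℕ := nat_lit 0x1b879ecc77c0

noncomputable def done_t1_3 : ℕ := nat_lit 0x7800000000

noncomputable def done_t2_0 : ℕ := nat_lit 0x1191cce786d

noncomputable def done_t2_1 : ℕ := nat_lit 0x1f5d30264c

noncomputable def done_t2_2 : ℕ := nat_lit 0x1191d7e9d12

noncomputable def done_t2_3 : ℕ := nat_lit 0x1ec082000000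

noncomputable def done_t3_0 : ℕ := nat_lit 0x68604f177ad

noncomputable def done_t3_1 : ℕ := nat_lit 0x780183c82ca

noncomputable def done_t3_2 : ℕ := nat_lit 0x7863c713d10

noncomputable def done_t3_3 : ℕ := nat_lit 0x183983000000

noncomputable def done_t4_0 : ℕ := nat_lit 0x6798149f07d

noncomputable def done_t4_1 : ℕ := nat_lit 0x16799eb0c45e

noncomputable def done_t4_2 : ℕ := nat_lit 0x16659ecaff80

noncomputable def done_t4_3 : ℕ := nat_lit 0x18060000000

noncomputable def done_t5_0 : ℕ := nat_lit 0x1807bf53323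

noncomputable def done_t5_1 : ℕ := nat_lit 0xf987eb0cf06

noncomputable def done_t5_2 : ℕ := nat_lit 0xf827ec6fcd8

noncomputable def done_t5_3 : ℕ := nat_lit 0x6180000000

noncomputable def done_t6_0 : ℕ := nat_lit 0x62119e7f7b5

noncomputable def done_t6_1 : ℕ := nat_lit 0x6701d030010

noncomputable def done_t6_2 : ℕ := nat_lit 0x6611d6bbfce

noncomputable def done_t6_3 : ℕ := nat_lit 0x190662000000

noncomputable def done_t7_0 : ℕ := nat_lit 0x4099d4ffed

noncomputable def done_t7_1 : ℕ := nat_lit 0x601d0b0808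

noncomputable def done_t7_2 : ℕ := nat_lit 0x689d53b7d6

noncomputable def done_t7_3 : ℕ := nat_lit 0x1e8662000000

noncomputable def done_t8_0 : ℕ := nat_lit 0x8018780348f

noncomputable def done_t8_1 : ℕ := nat_lit 0x182c00260

noncomputable def done_t8_2 : ℕ := nat_lit 0x19e2fffc80

noncomputable def done_t8_3 : ℕ := nat_lit 0x1fe61d000000

noncomputable def done_t9_0 : ℕ := nat_lit 0x19ff83f2c27

noncomputable def done_t9_1 : ℕ := nat_lit 0x6787f0130

noncomputable def done_t9_2 : ℕ := nat_lit 0x1e1840ec88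

noncomputable def done_t9_3 : ℕ := nat_lit 0x1fe187800000

noncomputable def done_t10_0 : ℕ := nat_lit 0x180687bff1dd

noncomputable def done_t10_1 : ℕ := nat_lit 0x1ee2c00852

noncomputable def done_t10_2 : ℕ := nat_lit 0x1ee2fff3a0

noncomputable def done_t10_3 : ℕ := nat_lit 0x1fe11d000000

noncomputable def done_t11_0 : ℕ := nat_lit 0xf99d33d147

noncomputable def done_t11_1 : ℕ := nat_lit 0x81f84c04d2

noncomputable def done_t11_2 : ℕ := nat_lit 0x99f87fd3a8

noncomputable def done_t11_3 : ℕ := nat_lit 0x1f6607800000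

noncomputable def done_t12_0 : ℕ := nat_lit 0x1fe0027fc0dd

noncomputable def done_t12_1 : ℕ := nat_lit 0x1ffff980005e

noncomputable def done_t12_2 : ℕ := nat_lit 0x1fffffffffa0

noncomputable def done_t12_3 : ℕ := nat_lit 0

noncomputable def done_t13_0 : ℕ := nat_lit 0x90bc02f7f55

noncomputable def done_t13_1 : ℕ := nat_lit 0x16efc03fc080

noncomputable def done_t13_2 : ℕ := nat_lit 0x1020000080

noncomputable def done_t13_3 : ℕ := nat_lit 0x1fffe03fc000

noncomputable def doneC : TC := ⟨Cfsg.Agent.PS4.PG, [[0], [1], [2], [3], [4], [5], [6], [7], [8], [9], [10], [11], [12], [13, 0, 13, 3, 13], [13, 8, 13, 8, 13, 9, 13]], 45, 48, 6, 4, [done_tr0, done_tr1, done_tr2, done_tr3],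
  [[done_t0_0, done_t0_1, done_t0_2, done_t0_3],
   [done_t1_0, done_t1_1, done_t1_2, done_t1_3],
   [done_t2_0, done_t2_1, done_t2_2, done_t2_3],
   [done_t3_0, done_t3_1, done_t3_2, done_t3_3],
   [done_t4_0, done_t4_1, done_t4_2, done_t4_3],
   [done_t5_0, done_t5_1, done_t5_2, done_t5_3],
   [done_t6_0, done_t6_1, done_t6_2, done_t6_3],
   [done_t7_0, done_t7_1, done_t7_2, done_t7_3],
   [done_t8_0, done_t8_1, done_t8_2, done_t8_3],
   [done_t9_0, done_t9_1, done_t9_2, done_t9_3],
   [done_t10_0, done_t10_1, done_t10_2, done_t10_3],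
   [done_t11_0, done_t11_1, done_t11_2, done_t11_3],
   [done_t12_0, done_t12_1, done_t12_2, done_t12_3],
   [done_t13_0, done_t13_1, done_t13_2, done_t13_3]]⟩

theorem done_s : doneC.structC Cfsg.Agent.PS4.AG.act = true :=
  by decide +kernel

theorem done_c0_0 : doneC.coverC Cfsg.Agent.PS4.AG.act 0 true [] [(true, 0, 0, 0), (false, 2, 1, 5), (false, 2, 1, 7), (false, 2, 1, 24), (false, 0, 0, 9), (false, 0, 0, 18), (false, 0, 0, 19), (false, 0, 0, 17), (false, 0, 0, 38), (false, 0, 1, 34), (false, 0, 1, 39), (false, 3, 0, 30), (false, 3, 0, 33), (false, 3, 2, 1), (false, 3, 2, 11), (false, 3, 2, 4), (false, 3, 2, 5), (false, 3, 2, 15), (false, 3, 2, 23), (false, 12, 0, 43), (false, 12, 0, 35), (false, 12, 1, 21), (false, 12, 1, 20), (false, 19, 3, 28), (false, 19, 3, 43), (false, 21, 2, 14), (false, 21, 2, 19), (false, 22, 3, 31), (false, 22, 3, 36), (false, 57, 3, 6), (false, 57, 3, 10), (false, 58, 2, 1), (false, 58, 2, 2), (false, 43, 0, 12), (false, 72, 1, 6), (false, 72, 1,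 11), (false, 72, 2, 0), (false, 72, 2, 4), (false, 72, 2, 9), (false, 78, 1, 10), (false, 78, 1, 8), (false, 78, 1, 12)] 0 (ones 45) = true :=
  by decide +kernel

theorem done_j0 : doneC.JustS Cfsg.Agent.PS4.AG.π 0 (ones 45) :=
  TC.cover_step Cfsg.Agent.PS4.AG.spec done_s (TC.justS_zero 0) done_c0_0

theorem done_c1_0 : doneC.coverC Cfsg.Agent.PS4.AG.act 1 true [] [(true, 1, 0, 0), (false, 2, 0, 2), (false, 2, 0, 14), (false, 2, 0, 3), (false, 2, 0, 12), (false, 2, 0, 9), (false, 2, 0, 41), (false, 2, 0, 44), (false, 1, 2, 30), (false, 1, 2, 39), (false, 1, 2, 34), (false, 1, 2, 33), (false, 1, 3, 18), (false, 1, 3, 19), (false, 4, 1, 2), (false, 4, 1, 4), (false, 4, 1, 11), (false, 4, 1, 15), (false, 4, 1, 5), (false, 4, 1, 23), (false, 4, 3, 30), (false, 4, 3, 33), (false, 13, 2, 20), (false, 13, 2, 21), (false, 13, 3, 35), (false, 18, 0, 43), (false, 18, 0, 27), (false, 18, 0, 28), (false, 21, 0, 31), (false, 21, 0, 36), (false, 22, 1, 14), (false, 22, 1, 19), (false, 57, 1,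 2), (false, 57, 1, 11), (false, 57, 1, 4), (false, 57, 1, 1), (false, 73, 2, 0), (false, 73, 2, 4), (false, 73, 2, 9), (false, 73, 3, 6), (false, 73, 3, 11), (false, 79, 4, 8), (false, 79, 4, 10)] 0 (ones 45) = true :=
  by decide +kernel

theorem done_j1 : doneC.JustS Cfsg.Agent.PS4.AG.π 1 (ones 45) :=
  TC.cover_step Cfsg.Agent.PS4.AG.spec done_s (TC.justS_zero 1) done_c1_0

theorem done_c2_0 : doneC.coverC Cfsg.Agent.PS4.AG.act 2 true [(1, 1)] [(true, 2, 0, 0), (false, 8, 1, 1), (false, 8, 1, 3), (false, 8, 1, 5), (false, 8, 1, 10), (false, 8, 1, 14), (false, 8, 1, 23), (false, 1, 0, 29), (false, 1, 0, 22), (false, 1, 0, 21), (false, 1, 0, 20), (false, 1, 0, 15), (false, 1, 0, 25), (false, 1, 0, 24), (false, 1, 0, 31), (false, 3, 1, 6), (false, 3, 1, 28), (false, 3, 1, 27), (false, 24, 2, 5), (false, 24, 2, 16), (false, 24, 2, 20), (false, 24, 2, 21), (false, 25, 3, 18), (false, 25, 3, 33), (false, 28, 3, 26), (false, 40, 0, 9), (false, 40, 0, 6), (false, 61, 2, 3), (false, 43,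 1, 4), (false, 79, 0, 27), (false, 79, 0, 28), (false, 79, 0, 26)] 0 (ones 45) = true :=
  by decide +kernel

theorem done_j2 : doneC.JustS Cfsg.Agent.PS4.AG.π 2 (ones 45) :=
  TC.cover_step Cfsg.Agent.PS4.AG.spec done_s (TC.justS_zero 2) done_c2_0

theorem done_c3_0 : doneC.coverC Cfsg.Agent.PS4.AG.act 3 true [] [(true, 3, 0, 0), (false, 8, 0, 7), (false, 8, 0, 13), (false, 8, 0, 16), (false, 8, 0, 4), (false, 8, 0, 29), (false, 8, 0, 37), (false, 8, 0, 32), (false, 0, 2, 1), (false, 0, 2, 2), (false, 0, 2, 11), (false, 0, 2, 5), (false, 0, 2, 41), (false, 0, 2, 42), (false, 0, 2, 23), (false, 0, 2, 26), (false, 0, 3, 15), (false, 0, 3, 20), (false, 0, 3, 21), (false, 0, 3, 22), (false, 0, 3, 24), (false, 0, 3, 25), (false, 0, 3, 29), (false, 3, 3, 12), (false, 3, 3, 31), (false, 3, 3, 32), (false, 3, 3, 43), (false, 24, 0, 33), (false, 24, 0, 18), (false, 25, 1, 16), (false, 25, 1, 5), (false, 25, 1, 20), (false, 25, 1, 21), (false, 27, 0, 26), (false, 39, 3, 6), (false, 39, 3,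 9), (false, 42, 3, 6), (false, 42, 3, 4), (false, 78, 5, 26), (false, 78, 5, 27), (false, 78, 5, 28), (true, 13, 3, 0)] 0 (ones 45) = true :=
  by decide +kernel

theorem done_j3 : doneC.JustS Cfsg.Agent.PS4.AG.π 3 (ones 45) :=
  TC.cover_step Cfsg.Agent.PS4.AG.spec done_s (TC.justS_zero 3) done_c3_0

theorem done_c4_0 : doneC.coverC Cfsg.Agent.PS4.AG.act 4 true [] [(true, 4, 0, 0), (false, 14, 1, 5), (false, 14, 1, 10), (false, 14, 1, 16), (false, 14, 1, 24), (false, 6, 0, 11), (false, 6, 0, 38), (false, 6, 0, 37), (false, 6, 0, 21), (false, 6, 0, 32), (false, 6, 0, 31), (false, 6, 1, 15), (false, 6, 1, 14), (false, 9, 0, 36), (false, 9, 0, 40), (false, 9, 2, 5), (false, 9, 2, 14), (false, 9, 2, 19), (false, 13, 0, 1), (false, 13, 0, 4), (false, 13, 0, 22), (false, 13, 0, 17), (false, 13, 0, 26), (false, 13, 1, 16), (false, 13, 1, 5), (false, 13, 1, 24), (false, 13, 1, 42), (false, 13, 1, 41), (false, 19, 2, 9), (false, 24, 3, 3), (false, 24, 3, 7), (false, 24, 3, 9), (false, 24,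 3, 37), (false, 25, 2, 23), (false, 51, 3, 4), (false, 52, 2, 1), (false, 49, 0, 13), (false, 78, 2, 0), (false, 78, 2, 4), (false, 78, 2, 6), (false, 78, 2, 9), (false, 78, 2, 11)] 0 (ones 45) = true :=
  by decide +kernel

theorem done_j4 : doneC.JustS Cfsg.Agent.PS4.AG.π 4 (ones 45) :=
  TC.cover_step Cfsg.Agent.PS4.AG.spec done_s (TC.justS_zero 4) done_c4_0

theorem done_c5_0 : doneC.coverC Cfsg.Agent.PS4.AG.act 5 true [] [(true, 5, 0, 0), (false, 14, 0, 18), (false, 14, 0, 3), (false, 14, 0, 12), (false, 14, 0, 13), (false, 14, 0, 11), (false, 14, 0, 33), (false, 14, 0, 43), (false, 7, 2, 36), (false, 7, 2, 14), (false, 7, 2, 15), (false, 7, 2, 40), (false, 7, 3, 31), (false, 7, 3, 37), (false, 7, 3, 38), (false, 10, 1, 19), (false, 10, 1, 5), (false, 10, 1, 14), (false, 10, 3, 36), (false, 10, 3, 40), (false, 12, 2, 2), (false, 12, 2, 5), (false, 12, 2, 41), (false, 12, 2, 42), (false, 12, 2, 16), (false, 12, 2, 24), (false, 12, 3, 4), (false, 12, 3, 17), (false, 12, 3, 22),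 (false, 12, 3, 26), (false, 18, 1, 6), (false, 24, 1, 6), (false, 24, 1, 23), (false, 25, 0, 7), (false, 25, 0, 37), (false, 51, 1, 1), (false, 52, 0, 4), (false, 79, 3, 0), (false, 79, 3, 4), (false, 79, 3, 6), (false, 79, 3, 9), (false, 79, 3, 11)] 0 (ones 45) = true :=
  by decide +kernel

theorem done_j5 : doneC.JustS Cfsg.Agent.PS4.AG.π 5 (ones 45) :=
  TC.cover_step Cfsg.Agent.PS4.AG.spec done_s (TC.justS_zero 5) done_c5_0

theorem done_c6_0 : doneC.coverC Cfsg.Agent.PS4.AG.act 6 true [] [(true, 6, 0, 0), (false, 20, 1, 1), (false, 20, 1, 5), (false, 20, 1, 14), (false, 20, 1, 18), (false, 20, 1, 23), (false, 20, 1, 27), (false, 20, 1, 28), (false, 7, 0, 6), (false, 7, 0, 35), (false, 7, 0, 41), (false, 7, 0, 42), (false, 7, 0, 19), (false, 7, 0, 24), (false, 7, 0, 25), (false, 7, 1, 26), (false, 7, 1, 23), (false, 9, 1, 3), (false, 9, 1, 1), (false, 9, 1, 4), (false, 9, 1, 24), (false, 9, 1, 26), (false, 9, 1, 17), (false, 9, 1, 16), (false, 10, 0, 30), (false, 10, 0, 29),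 (false, 21, 3, 11), (false, 21, 3, 21), (false, 21, 3, 22), (false, 22, 2, 5), (false, 22, 2, 20), (false, 27, 3, 8), (false, 28, 2, 22), (false, 28, 2, 5), (false, 28, 2, 23), (false, 46, 0, 11), (false, 55, 2, 1), (false, 67, 0, 1), (false, 67, 0, 9), (false, 48, 1, 2), (false, 79, 1, 23)] 0 (ones 45) = true :=
  by decide +kernel

theorem done_j6 : doneC.JustS Cfsg.Agent.PS4.AG.π 6 (ones 45) :=
  TC.cover_step Cfsg.Agent.PS4.AG.spec done_s (TC.justS_zero 6) done_c6_0

theorem done_c7_0 : doneC.coverC Cfsg.Agent.PS4.AG.act 7 true [] [(true, 7, 0, 0), (false, 20, 0, 20), (false, 20, 0, 6), (false, 20, 0, 31), (false, 20, 0, 35), (false, 20, 0, 39), (false, 20, 0, 42), (false, 20, 0, 41), (false, 6, 2, 17), (false, 6, 2, 16), (false, 6, 2, 26), (false, 6, 2, 23), (false, 6, 3, 1), (false, 6, 3, 19), (false, 6, 3, 24), (false, 6, 3, 25), (false, 6, 3, 35), (false, 9, 3, 2), (false, 9, 3, 7), (false, 9, 3, 13), (false, 9, 3, 29), (false, 9, 3, 30), (false, 9, 3, 41), (false, 9, 3,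 42), (false, 10, 2, 24), (false, 10, 2, 26), (false, 21, 1, 4), (false, 21, 1, 20), (false, 21, 1, 5), (false, 22, 0, 22), (false, 22, 0, 21), (false, 27, 1, 23), (false, 28, 0, 13), (false, 45, 3, 11), (false, 54, 1, 3), (false, 66, 3, 9), (false, 49, 3, 2), (false, 78, 4, 1), (false, 78, 4, 5), (false, 78, 4, 22), (false, 78, 4, 23)] 0 (ones 45) = true :=
  by decide +kernel

theorem done_j7 : doneC.JustS Cfsg.Agent.PS4.AG.π 7 (ones 45) :=
  TC.cover_step Cfsg.Agent.PS4.AG.spec done_s (TC.justS_zero 7) done_c7_0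

theorem done_c8_0 : doneC.coverC Cfsg.Agent.PS4.AG.act 8 true [(26, 1), (39, 0)] [(true, 8, 0, 0), (false, 30, 0, 4), (false, 30, 0, 8), (false, 30, 0, 11), (false, 30, 0, 40), (false, 30, 0, 39), (false, 30, 0, 32), (false, 36, 2, 11), (false, 51, 2, 20), (false, 51, 2, 21), (false, 52, 3, 33), (false, 52, 3, 34), (false, 52, 3, 37), (false, 52, 3, 38), (false, 42, 0, 10), (false, 42, 0, 43), (false, 42, 0, 44), (false, 42, 0, 24), (false, 42, 0, 26), (false, 42, 0, 31), (true, 14, 3, 0)] 0 (ones 45) = true :=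
  by decide +kernel

theorem done_j8 : doneC.JustS Cfsg.Agent.PS4.AG.π 8 (ones 45) :=
  TC.cover_step Cfsg.Agent.PS4.AG.spec done_s (TC.justS_zero 8) done_c8_0

theorem done_c9_0 : doneC.coverC Cfsg.Agent.PS4.AG.act 9 true [] [(true, 9, 0, 0), (false, 26, 0, 4), (false, 26, 0, 8), (false, 26, 0, 5), (false, 26, 0, 44), (false, 26, 0, 35), (false, 26, 0, 36), (false, 31, 0, 6), (false, 31, 0, 9), (false, 31, 0, 12), (false, 31, 0, 29), (false, 31, 0, 30), (false, 31, 0, 43), (false, 31, 0, 26), (false, 31, 0, 24), (false, 36, 0, 10), (false, 39, 2, 1), (false, 39, 2, 5), (false, 39, 2, 16), (false, 40, 3, 17), (false, 40, 3, 27), (false, 40, 3, 28), (false, 40, 3, 33), (false, 40, 3, 34), (false, 40, 3, 41), (false, 40, 3, 42), (false, 51, 0, 18), (false, 51, 0, 37), (false, 51, 0, 38), (false, 51, 0, 33), (false, 51, 0, 34), (false, 52, 1, 5), (false, 54, 0, 20), (false, 55, 1, 5), (false, 42, 2, 1), (false, 42, 2, 5), (false, 43, 4, 10), (false, 43, 4, 24), (false, 43, 4, 26), (false,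 43, 4, 30), (false, 43, 4, 43), (false, 43, 4, 44)] 0 (ones 45) = true :=
  by decide +kernel

theorem done_j9 : doneC.JustS Cfsg.Agent.PS4.AG.π 9 (ones 45) :=
  TC.cover_step Cfsg.Agent.PS4.AG.spec done_s (TC.justS_zero 9) done_c9_0

theorem done_c10_0 : doneC.coverC Cfsg.Agent.PS4.AG.act 10 true [] [(true, 10, 0, 0), (false, 32, 1, 2), (false, 32, 1, 3), (false, 32, 1, 13), (false, 33, 0, 10), (false, 33, 0, 18), (false, 33, 0, 19), (false, 33, 0, 23), (false, 36, 3, 4), (false, 36, 3, 29), (false, 36, 3, 30), (false, 37, 2, 1), (false, 37, 2, 9), (false, 37, 2, 3), (false, 37, 2, 41), (false, 37, 2, 42), (false, 37, 2, 27), (false, 37, 2, 28), (false, 45, 0, 3), (false, 45, 0, 21), (false, 45, 0, 22), (false, 46, 1, 5), (false, 46, 1, 14), (false, 46, 1, 15), (false, 57, 2, 5), (false, 57, 2, 20), (false, 57, 2, 35), (false, 58, 3, 14), (false, 58, 3, 37), (false, 58, 3, 38), (false, 60, 2, 5), (false, 60, 2, 20), (false, 60, 2, 21), (false, 60, 2, 19), (false, 60, 2, 18), (false,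 60, 2, 35), (false, 60, 2, 36), (false, 61, 3, 7), (false, 61, 3, 16), (false, 48, 0, 36), (false, 49, 2, 5), (false, 49, 2, 14), (false, 75, 2, 0), (false, 75, 2, 4)] 0 (ones 45) = true :=
  by decide +kernel

theorem done_j10 : doneC.JustS Cfsg.Agent.PS4.AG.π 10 (ones 45) :=
  TC.cover_step Cfsg.Agent.PS4.AG.spec done_s (TC.justS_zero 10) done_c10_0

theorem done_c11_0 : doneC.coverC Cfsg.Agent.PS4.AG.act 11 true [] [(true, 11, 0, 0), (false, 32, 0, 10), (false, 32, 0, 12), (false, 34, 0, 11), (false, 34, 0, 35), (false, 34, 0, 36), (false, 34, 0, 39), (false, 36, 1, 1), (false, 36, 1, 9), (false, 36, 1, 27), (false, 36, 1, 28), (false, 36, 1, 16), (false, 36, 1, 17), (false, 36, 1, 42), (false, 36, 1, 41), (false, 37, 0, 4), (false, 45, 2, 5), (false, 45, 2, 20), (false, 45, 2, 17), (false, 45, 2, 16), (false, 45, 2, 14), (false, 45, 2, 15), (false, 46, 3, 21), (false, 57, 0, 14), (false, 57, 0, 38), (false, 57, 0, 37), (false, 58, 1, 5), (false, 58, 1, 35), (false, 58, 1, 20),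 (false, 60, 0, 9), (false, 60, 0, 7), (false, 60, 0, 13), (false, 60, 0, 16), (false, 61, 1, 5), (false, 61, 1, 36), (false, 61, 1, 35), (false, 61, 1, 20), (false, 61, 1, 21), (false, 48, 2, 5), (false, 48, 2, 14), (false, 49, 4, 36), (false, 76, 0, 1), (false, 76, 0, 5)] 0 (ones 45) = true :=
  by decide +kernel

theorem done_j11 : doneC.JustS Cfsg.Agent.PS4.AG.π 11 (ones 45) :=
  TC.cover_step Cfsg.Agent.PS4.AG.spec done_s (TC.justS_zero 11) done_c11_0

theorem done_c12_0 : doneC.coverC Cfsg.Agent.PS4.AG.act 12 true [(63, 0), (72, 4)] [(true, 12, 0, 0), (false, 63, 2, 5), (false, 63, 2, 16), (false, 63, 2, 17), (false, 63, 2, 21), (false, 63, 2, 20), (false, 63, 2, 24), (false, 63, 2, 26), (false, 64, 1, 5), (false, 64, 3, 9), (false, 64, 3, 19), (false, 66, 0, 21), (false, 66, 0, 40), (false, 66, 2, 5), (false, 66, 2, 23), (false, 67, 1, 5), (false, 67, 1, 23), (false, 67, 1, 26), (false, 67, 3, 21), (false, 69, 0, 4), (false, 69, 0, 13), (false, 69, 2, 2), (false, 70, 1, 2),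 (false, 70, 3, 4), (false, 70, 3, 13)] 0 (ones 45) = true :=
  by decide +kernel

theorem done_j12 : doneC.JustS Cfsg.Agent.PS4.AG.π 12 (ones 45) :=
  TC.cover_step Cfsg.Agent.PS4.AG.spec done_s (TC.justS_zero 12) done_c12_0

theorem done_c13_0 : doneC.coverC Cfsg.Agent.PS4.AG.act 13 true [(41, 0)] [(false, 72, 0, 16), (false, 72, 0, 19), (false, 72, 0, 29), (false, 72, 0, 32), (false, 72, 0, 36), (false, 72, 0, 41), (false, 72, 0, 38), (false, 72, 3, 20), (false, 72, 3, 15), (false, 72, 3, 34), (false, 72, 3, 40), (false, 72, 3, 43), (false, 75, 0, 7), (false, 75, 0, 18), (false, 75, 0, 31), (false, 75, 0, 34), (false, 75, 0, 30), (false, 76, 2, 15), (false, 76, 2, 20), (false, 78, 0, 15), (false, 78, 0, 37), (false, 78, 3, 43), (false, 78, 3, 40), (false, 84, 0, 43), (false, 84, 0, 40)] 0 (ones 45) = true :=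
  by decide +kernel

theorem done_j13 : doneC.JustS Cfsg.Agent.PS4.AG.π 13 (ones 45) :=
  TC.cover_step Cfsg.Agent.PS4.AG.spec done_s (TC.justS_zero 13) done_c13_0

theorem done : doneC.Done Cfsg.Agent.PS4.AG.π :=
  TC.done_of Cfsg.Agent.PS4.AG.spec sat done_s ⟨done_j0, done_j1, done_j2, done_j3, done_j4, done_j5, done_j6, done_j7, done_j8, done_j9, done_j10, done_j11, done_j12, done_j13, trivial⟩

end AG

theorem iAG : Impl Cfsg.Agent.PS4.PG Cfsg.Agent.PS4.PK [[0], [1], [2], [3], [4], [5], [6], [7], [8], [9], [10], [11], [12]] :=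
  impl_of_subC (P := Cfsg.Agent.PS4.PG) (c1 := [(87, 0), (87, 0), (87, 0), (87, 0), (87, 0), (87, 0), (87, 0), (87, 0), (87, 0), (87, 0), (87, 0), (87, 0), (87, 0)]) (c2 := [(0, 0), (3, 0), (6, 0), (9, 0), (12, 0), (15, 0), (18, 0), (21, 0), (24, 0), (27, 0), (30, 0), (33, 0), (36, 0), (39, 0), (42, 0), (45, 0), (48, 0), (51, 0), (54, 0), (57, 0), (60, 0), (63, 0), (66, 0), (69, 0)]) (by decide +kernel)

theorem bG : Bound Cfsg.Agent.PS4.PG 25920 :=
  AG.done.bound' bK iAG ⟨inSub_of_mem (by decide), inSub_of_mem (by decide), inSub_of_mem (by decide), inSub_of_mem (by decide), inSub_of_mem (by decide), inSub_of_mem (by decide), inSub_of_mem (by decide), inSub_of_mem (by decide), inSub_of_mem (by decide), inSub_of_mem (by decide), inSub_of_mem (by decide), inSub_of_mem (by decide), inSub_of_mem (by decide), sAG_0, sAG_1, trivial⟩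

end Cfsg.Agent.PS4
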